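import Cfsg.Agent.H445.Rows
import Cfsg.Agent.H445.Comp
import Cfsg.Agent.OddHalf.Quat.RowSpFour

/-!
# `LRow` for `PSp₄(q)`, `q = 2^a ≥ 4` (task 879, for helper445)
-/

set_option autoImplicit false
set_option linter.unusedSectionVars false

namespace Cfsg.Agent.H791.SpFourL

open Subgroup Cfsg
open Cfsg.Agent.H445
open Cfsg.Agent.OddHalf.Quat (XZ)
open Cfsg.Agent.StdRank2
open Cfsg.Agent.TitsThree.B2Pkg Cfsg.Agent.TitsThree.RankTwoIdentB2
  Cfsg.Agent.TitsThree.CoreB2 Cfsg.Agent.TitsThree.RankTwoIdx Cfsg.Agent.TitsThree.RankTwoRGD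
  Cfsg.Agent.TitsThree.StdData
open Cfsg.Agent.StdRank2.OddLift Cfsg.Agent.StdRank2.B2Lift Cfsg.Agent.StdRank2.B2Std
  Cfsg.Agent.StdRank2.B2Torus Cfsg.Agent.StdRank2.B2Act Cfsg.Agent.StdRank2.B2Act.Std
  Cfsg.Agent.StdRank2.B2Par Cfsg.Agent.StdRank2.B2Par.Std Cfsg.Agent.StdRank2.B2Self
  Cfsg.Agent.StdRank2.SpFrame Cfsg.Agent.StdRank2.SpSelf

universe u

section std

variable {F : Type*} [Field F] [Finite F] [CharP F 2]
variable {A : Type u} [Group A] [Finite A] (S : Std (stdSp F) A)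

/-- `n_a` does not normalize `U` -/
theorem na_not : na S ∉ normalizer (S.U : Set A) := by
  intro h
  rw [Std.normalizer_U S] at h
  have h1 := (VJ_normal_B (S := S) h (v := S.m.z₁ (tt 1))).1 (S.z₁_mem_VJ _)
  rw [na_z₁, S.z₂_mem_VJ_iff] at h1
  exact one_ne_zero (congrArg PQDatum.T.c h1)

/-- `n_b` does not normalize `U` -/
theorem nb_not : nb S ∉ normalizer (S.U : Set A) := by
  intro h
  rw [Std.normalizer_U S] at h
  have h1 := (VI_normal_B (S := S) h (v := S.m.y 1)).1 (S.y_mem_VI _)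
  rw [nb_y, S.x_mem_VI_iff] at h1
  exact one_ne_zero h1

theorem z₁_zero : S.m.z₁ (tt (0 : F)) = 1 := by rw [← tt_one]; exact mul_one' S.rel.z₁_mul

theorem y_zero : S.m.y (0 : F) = 1 := add_zero' S.rel.y_add

/-- the mixed involutions of `Z(U)` are conjugate -/
theorem isConj_mixed {p b p' b' : F} (hp : p ≠ 0) (hb : b ≠ 0) (hp' : p' ≠ 0) (hb' : b' ≠ 0) :
    IsConj (S.m.z₁ (tt p) * S.m.y b) (S.m.z₁ (tt p') * S.m.y b') := by
  -- `α ^ 2 β p = p'`, `α β b = b'`: `α = (p'/p) / (b'/b)`, `β = (b'/b)/α`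
  have hα : (p' / p) / (b' / b) ≠ 0 := div_ne_zero (div_ne_zero hp' hp) (div_ne_zero hb' hb)
  have hβ : (b' / b) / ((p' / p) / (b' / b)) ≠ 0 := div_ne_zero (div_ne_zero hb' hb) hα
  rw [isConj_iff]
  refine ⟨SpFrame.h S (Units.mk0 _ hα) (Units.mk0 _ hβ), ?_⟩
  have h1 := h_z₁ S (α := Units.mk0 _ hα) (β := Units.mk0 _ hβ) p
  have h2 := h_y S (α := Units.mk0 _ hα) (β := Units.mk0 _ hβ) b
  set g := SpFrame.h S (Units.mk0 _ hα) (Units.mk0 _ hβ) with hg
  have h3 : g * (S.m.z₁ (tt p) * S.m.y b) * g⁻¹ = (g * S.m.z₁ (tt p) * g⁻¹) * (g * S.m.y b * g⁻¹) := by group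
  rw [h3, h1, h2]
  congr 2
  · congr 1
    simp only [Units.val_mk0]
    field_simp
  · simp only [Units.val_mk0]
    field_simp

variable [IsSimpleGroup A]

/-- **`LRow`** from the standard data -/
theorem lrow_std (hc : center A = ⊥) (h2 : ¬ TwoClosed A) (hI : SylInn A) (P : Sylow 2 A) (hP : (P : Subgroup A) = S.U) :
    LRow A := by
  refine LRow.of_sylInn hc h2 hI P fun z z' h1 h3 => ?_
  have key : ∀ z : A, TC (P : Subgroup A) (MulAut.conj z) → ∃ p b : F, p ≠ 0 ∧ b ≠ 0 ∧ z = S.m.z₁ (tt p) * S.m.y b := by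
    intro z hz
    obtain ⟨a1, a2, a3, a4⟩ := hz.conj_facts hc h2
    have h5 : z ∈ XZ S.U := by
      rw [hP] at a1 a4
      exact ⟨a1, a2, a4⟩
    obtain ⟨b, p, e⟩ := (SpSelf.mem_inf S).1 ((Cfsg.Agent.OddHalf.Quat.SpFourRow.mem_iff S).1 h5)
    have hfix : ∀ x : A, x * z * x⁻¹ = z → z * x * z⁻¹ = x := by
      intro x hx
      have h6 : x * z = z * x := by
        calc x * z = (x * z * x⁻¹) * x := by group
          _ = z * x := by rw [hx]
      rw [← h6]; group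
    refine ⟨p, b, ?_, ?_, e⟩
    · rintro rfl
      rw [z₁_zero, one_mul] at e
      apply na_not S
      rw [← hP]
      apply hz.nor
      exact hfix _ (by rw [e]; exact na_y S b)
    · rintro rfl
      rw [y_zero, mul_one] at e
      apply nb_not S
      rw [← hP]
      apply hz.nor
      exact hfix _ (by rw [e]; exact nb_z₁ S p)
  obtain ⟨p, b, hp, hb, rfl⟩ := key z h1
  obtain ⟨p', b', hp', hb', rfl⟩ := key z' h3
  exact isConj_mixed S hp hb hp' hb'

end std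

/-- **`LRow` for `PSp₄(q)`, `q ≥ 4` even** -/
theorem lrow_sp4 {X : Type u} [Group X] [Finite X] [IsSimpleGroup X] {F : Type} [Field F] [Fintype F] {a : ℕ} (ha : 2 ≤ a)
    (hF : Fintype.card F = 2 ^ a) (e : X ≃* Cfsg.PSp 2 F) : LRow X := by
  have hp2 : Fact (Nat.Prime 2) := ⟨Nat.prime_two⟩
  have hc2 : CharP F 2 := charP_of_card_eq_prime_pow hF
  have hF4 : 4 ≤ Nat.card F := by
    rw [Nat.card_eq_fintype_card, hF]
    calc 4 = 2 ^ 2 := by norm_num
      _ ≤ 2 ^ a := Nat.pow_le_pow_right (by norm_num) ha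
  have hs : IsSimpleGroup (Cfsg.PSp 2 F) :=
    Cfsg.Agent.S0270.result 2 le_rfl (fun _ => by rw [← Nat.card_eq_fintype_card]; omega)
  obtain ⟨S⟩ := Cfsg.Agent.StdRank2.B2Inst.exists_std_Sp (F := F) (by omega)
  have hnc : ¬ IsMulCommutative (Cfsg.PSp 2 F) := by
    intro h
    have h1 : B2Std.nf S.m 1 (tt 0) 0 (tt 0) * B2Std.nf S.m 0 (tt 0) 0 (tt 1) =
        B2Std.nf S.m 0 (tt 0) 0 (tt 1) * B2Std.nf S.m 1 (tt 0) 0 (tt 0) := h.1.1 _ _
    rw [mul_sp, mul_sp] at h1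
    have h3 := (nf_inj_sp S h1).2.2.1
    have h4 : (0 : F) = 1 := by linear_combination h3
    exact zero_ne_one h4
  have hc : center (Cfsg.PSp 2 F) = ⊥ := by
    rcases (inferInstance : (center (Cfsg.PSp 2 F)).Normal).eq_bot_or_eq_top with h | h
    · exact h
    · exfalso
      apply hnc
      refine ⟨⟨fun x y => ?_⟩⟩
      have : y ∈ center (Cfsg.PSp 2 F) := by rw [h]; exact mem_top _
      exact mem_center_iff.1 this x
  obtain ⟨P, hP⟩ := Std.exists_sylow S scal_Sp (by rw [hc, card_bot]; exact odd_one)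
  have h6 : ¬ Nonempty (Cfsg.PSp 2 F ≃* ↥(alternatingGroup (Fin 6))) := by
    rintro ⟨f⟩
    have h7 : Nat.card (Cfsg.PSp 2 F) = 360 := by
      rw [Nat.card_congr f.toEquiv, nat_card_alternatingGroup]
      simp [Nat.card_eq_fintype_card, Nat.factorial]
    have h8 : Nat.card S.U ∣ 360 := by
      rw [← h7]; exact card_subgroup_dvd_card _
    have hT : Nat.card (stdSp F).T = Nat.card F :=
      Nat.card_congr ⟨fun p => p.c, fun c => tt c, fun _ => rfl, fun _ => rfl⟩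
    have hUc := S.card_U
    rw [hT] at hUc
    rw [hUc, Nat.card_eq_fintype_card, hF] at h8
    have h9 : 2 ^ 8 ∣ 360 := by
      refine Dvd.dvd.trans ?_ h8
      have : 2 ^ 8 ∣ 2 ^ (2 * a + 2 * a) := Nat.pow_dvd_pow 2 (by omega)
      refine this.trans (dvd_of_eq ?_)
      ring
    revert h9
    decide
  have hX : Cfsg.IsChevSimple 2 (Cfsg.PSp 2 F) := by
    refine Or.inl (Or.inr (Or.inl ⟨F, inferInstance, inferInstance, hc2, 2, le_rfl, fun _ => ?_, ⟨MulEquiv.refl _⟩⟩))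
    rw [← Nat.card_eq_fintype_card]; omega
  exact LRow.of_equiv e.symm (lrow_std S hc (not_twoClosed_of_simple hnc) (sylInn_chev hX h6) P hP)

end Cfsg.Agent.H791.SpFourL
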