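import Cfsg.Agent.H791.Fusion

/-!
# Essential-like subgroups of `p`-groups of rank at most 2 (helper791)
-/

set_option autoImplicit false

namespace Cfsg.Agent.H791

open Subgroup Cfsg Cfsg.FusionSystem
open Cfsg.Agent.H802
open scoped commutatorElement

variable {Ω : Type*} [Group Ω] {S : Subgroup Ω} {p : ℕ} [hp : Fact p.Prime]

omit hp in
theorem rank_le {T : Subgroup Ω} (hT : T ≤ S)
    (hrk : ∀ E : Subgroup Ω, E ≤ S → IsElementaryAbelian p E → Nat.card E ≤ p ^ 2) :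
    ∀ E : Subgroup T, IsElementaryAbelian p E → Nat.card E ≤ p ^ 2 := by
  intro E hE
  rw [← card_map_inj T.subtype_injective]
  refine hrk _ ((map_subtype_le E).trans hT) ⟨⟨⟨?_⟩⟩, ?_⟩
  · rintro ⟨_, x, hx, rfl⟩ ⟨_, y, hy, rfl⟩
    apply Subtype.ext
    have h1 : x * y = y * x := congrArg Subtype.val (hE.1.1.1 ⟨x, hx⟩ ⟨y, hy⟩)
    exact congrArg (fun t : T => (t : Ω)) h1
  · rintro _ ⟨x, hx, rfl⟩
    rw [← map_pow, hE.2 x hx, map_one]

/-- the Sylow subgroup `Aut_S(Q)` and an element outside `Inn(Q)` -/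
theorem exists_sylow_of_centric [Finite S] (hS : IsPGroup p S)
    {F : FusionSystem S} (hF : F.IsSaturated p) {Q : Subgroup Ω} (hQ : F.IsFullyNormalized Q)
    (hc : F.IsCentric Q) (hne : Q ≠ S) :
    ∃ P : Sylow p (F.autGroup Q), (P : Subgroup (F.autGroup Q)) =
      (autInducedBy S Q).subgroupOf (F.autGroup Q) ∧
      (∃ g ∈ P, ∀ x : Q, (g : MulAut Q) ≠ MulAut.conj x) := by
  obtain ⟨-, P, hP⟩ := isFullyAutomized_of_isFullyNormalized hS hF hQ
  refine ⟨P, hP, ?_⟩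
  have hlt := card_lt_card_normalizerIn hS hQ.1 hne
  obtain ⟨y, hyN, hyQ⟩ : ∃ y ∈ normalizerIn S Q, y ∉ Q := by
    by_contra hcon
    push Not at hcon
    have hfin : Finite Q := finite_of_le hQ.1
    have h1 : Nat.card (normalizerIn S Q) ≤ Nat.card Q := Nat.card_mono (Set.toFinite _) hcon
    omega
  obtain ⟨α, hα⟩ := exists_conjAut hyN.2
  have hαS : α ∈ autInducedBy S Q := (mem_autInducedBy_iff S Q α).2 ⟨y, hyN.1, hα⟩
  refine ⟨⟨α, autInducedBy_le_autGroup F hQ.1 hαS⟩, ?_, fun x hx => hyQ ?_⟩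
  · rw [← SetLike.mem_coe, ← Sylow.coe_coe, SetLike.mem_coe, hP]
    exact hαS
  · have hx' : α = MulAut.conj x := hx
    have h1 : (x : Ω)⁻¹ * y ∈ centralizerIn S Q := by
      refine ⟨S.mul_mem (S.inv_mem (hQ.1 x.2)) hyN.1, mem_centralizer_iff.2 fun z hz => ?_⟩
      have h2 := hα ⟨z, hz⟩
      rw [hx'] at h2
      have h3 : (x : Ω) * z * (x : Ω)⁻¹ = y * z * y⁻¹ := h2
      calc z * ((x : Ω)⁻¹ * y) = (x : Ω)⁻¹ * ((x : Ω) * z * (x : Ω)⁻¹) * y := by group
        _ = (x : Ω)⁻¹ * (y * z * y⁻¹) * y := by rw [h3]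
        _ = (x : Ω)⁻¹ * y * z := by group
    have h2 := hc.2 Q (isConj_refl F hQ.1) h1
    have h3 := Q.mul_mem x.2 h2
    rwa [mul_inv_cancel_left] at h3

/-- the hypotheses of `structure_of_rank_two` -/
theorem bad_structure [Finite S] (hp2 : p ≠ 2) (hS : IsPGroup p S)
    {F : FusionSystem S} (hF : F.IsSaturated p)
    (hrk : ∀ E : Subgroup Ω, E ≤ S → IsElementaryAbelian p E → Nat.card E ≤ p ^ 2)
    {Q : Subgroup Ω} (hQ : F.IsFullyNormalized Q) (hc : F.IsCentric Q) (hne : Q ≠ S)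
    (hno : NoNormal p F Q) :
    ∃ P : Sylow p (F.autGroup Q), (P : Subgroup (F.autGroup Q)) =
      (autInducedBy S Q).subgroupOf (F.autGroup Q) ∧
      (CaseOne p (F.autGroup Q) P ∨ CaseTwo p (F.autGroup Q) P) := by
  obtain ⟨P, hP, hg⟩ := exists_sylow_of_centric hS hF hQ hc hne
  have hfin : Finite Q := finite_of_le hQ.1
  exact ⟨P, hP, structure_of_rank_two hp2 (hS.to_le hQ.1) (rank_le hQ.1 hrk) _
    (conj_mem_autGroup F hQ.1) hno P hg⟩

/-- for `p ≥ 5` only the first case -/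
theorem bad_not_case_two [Finite S] (hp5 : 5 ≤ p) (hS : IsPGroup p S)
    {F : FusionSystem S} (hF : F.IsSaturated p)
    (hrk : ∀ E : Subgroup Ω, E ≤ S → IsElementaryAbelian p E → Nat.card E ≤ p ^ 2)
    {Q : Subgroup Ω} (hQ : F.IsFullyNormalized Q) (hc : F.IsCentric Q)
    (P : Sylow p (F.autGroup Q)) (hP : (P : Subgroup (F.autGroup Q)) =
      (autInducedBy S Q).subgroupOf (F.autGroup Q)) : ¬ CaseTwo p (F.autGroup Q) P := by
  rintro ⟨E, hE, hexp, hEc, hZc, hcl, -, hinn, hker, hdiag⟩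
  have hfinN : Finite (normalizerIn S Q) := finite_of_le inf_le_left
  have hfin : Finite Q := finite_of_le hQ.1
  have hmemP : ∀ g : F.autGroup Q, g ∈ (P : Subgroup (F.autGroup Q)) ↔
      (g : MulAut Q) ∈ autInducedBy S Q := by
    intro g
    rw [hP, mem_subgroupOf]
  refine case_two (R := Q) (N := normalizerIn S Q) hp5 (hS.to_le inf_le_left)
    (rank_le inf_le_left hrk) (i := inclusion (le_normalizerIn hQ.1)) (inclusion_injective _)
    (Q.normalizerMonoidHom.comp (inclusion (inf_le_right : normalizerIn S Q ≤ _))) (fun y x => rfl)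
    ?_ (F.autGroup Q) P P.isPGroup' ?_ ?_ ?_ hE hexp hEc hZc hcl hinn hker hdiag
  · intro y x hyx
    -- `x⁻¹ y` centralizes `Q`
    have h1 : (x : Ω)⁻¹ * y ∈ centralizerIn S Q := by
      refine ⟨S.mul_mem (S.inv_mem (hQ.1 x.2)) y.2.1, mem_centralizer_iff.2 fun z hz => ?_⟩
      have h2 : (y : Ω) * z * (y : Ω)⁻¹ = x * z * (x : Ω)⁻¹ := by
        have h3 := congrArg (fun f : MulAut Q => ((f ⟨z, hz⟩ : Q) : Ω)) hyx
        exact h3
      calc z * ((x : Ω)⁻¹ * y) = (x : Ω)⁻¹ * ((x : Ω) * z * (x : Ω)⁻¹) * y := by group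
        _ = (x : Ω)⁻¹ * (y * z * (y : Ω)⁻¹) * y := by rw [h2]
        _ = (x : Ω)⁻¹ * y * z := by group
    have h2 := hc.2 Q (isConj_refl F hQ.1) h1
    have h3 := Q.mul_mem x.2 h2
    rw [mul_inv_cancel_left] at h3
    exact ⟨⟨y, h3⟩, rfl⟩
  · intro y
    have h1 : (Q.normalizerMonoidHom.comp (inclusion (inf_le_right : normalizerIn S Q ≤ _))) y ∈
        autInducedBy S Q := (mem_autInducedBy_iff S Q _).2 ⟨y, y.2.1, fun x => rfl⟩
    exact ⟨⟨_, autInducedBy_le_autGroup F hQ.1 h1⟩, (hmemP _).2 h1, rfl⟩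
  · intro g hg
    obtain ⟨y, hy, hyg⟩ := (mem_autInducedBy_iff S Q _).1 ((hmemP g).1 hg)
    have hyN : y ∈ normalizerIn S Q := ⟨hy, mem_normalizer_of_aut hyg⟩
    refine ⟨⟨y, hyN⟩, ?_⟩
    apply MulEquiv.ext
    intro x
    exact Subtype.ext (hyg x)
  · intro h hh
    obtain ⟨ψ, hψ, hψe⟩ := exists_extension_of_normalizes
      (isReceptive_of_isFullyNormalized hS hF hQ) h.2 (fun δ hδ => by
        have h1 := hh ⟨δ, autInducedBy_le_autGroup F hQ.1 hδ⟩ ((hmemP _).2 hδ)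
        exact (hmemP _).1 h1)
    have h1 : ∀ y : normalizerIn S Q, ψ y ∈ normalizerIn S Q := by
      refine apply_mem_normalizerIn (P := Q)
        (φ := Q.subtype.comp (h : MulAut Q).toMonoidHom) hψ (le_normalizerIn hQ.1) inf_le_right ?_
        (fun x hx => hψe x hx _)
      exact range_eq_of_mapsTo ((mem_autGroup_iff F hQ.1 _).1 h.2) (fun x => ((h : MulAut Q) x).2)
    obtain ⟨α, -, hα⟩ := exists_aut hψ (range_eq_of_mapsTo hψ h1)
    refine ⟨α, fun x => Subtype.ext ?_⟩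
    rw [hα]
    exact hψe x x.2 _

/-- for `p ≥ 5` bad subgroups are elementary abelian of order `p ^ 2` -/
theorem bad_elementary [Finite S] (hp5 : 5 ≤ p) (hS : IsPGroup p S)
    {F : FusionSystem S} (hF : F.IsSaturated p)
    (hrk : ∀ E : Subgroup Ω, E ≤ S → IsElementaryAbelian p E → Nat.card E ≤ p ^ 2)
    {Q : Subgroup Ω} (hQ : F.IsFullyNormalized Q) (hc : F.IsCentric Q) (hne : Q ≠ S)
    (hno : NoNormal p F Q) :
    ∃ P : Sylow p (F.autGroup Q), (P : Subgroup (F.autGroup Q)) =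
      (autInducedBy S Q).subgroupOf (F.autGroup Q) ∧ Nat.card Q = p ^ 2 ∧ (∀ x : Q, x ^ p = 1) ∧
      (∀ x y : Q, x * y = y * x) ∧ HasDiag p (F.autGroup Q) P ⊤ ⊥ := by
  have hp2 : p ≠ 2 := by omega
  obtain ⟨P, hP, h1 | h2⟩ := bad_structure hp2 hS hF hrk hQ hc hne hno
  · have hfin : Finite Q := finite_of_le hQ.1
    refine ⟨P, hP, ?_⟩
    obtain ⟨E, hE, hEchar, hEc, hcomm, -, hfaith, hdiag⟩ := h1
    let _ : CommGroup Q := { (inferInstance : Group Q) with mul_comm := hcomm }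
    have hexp : ∀ x : Q, x ^ p = 1 := by
      obtain ⟨u, huP, v, a, haE, b, hbE, haZ, -, hgen, hua, hub, hva, hvb, -⟩ := hdiag
      rw [mem_bot, inv_mul_eq_one] at hua hub hva
      have hap : a ^ p = 1 := (hE a).1 haE
      have hbp : b ^ p = 1 := (hE b).1 hbE
      have hup : (u : MulAut Q) ^ p = 1 := by
        refine hfaith _ (pow_mem u.2 p) fun x hx => ?_
        obtain ⟨i, j, hij⟩ := hgen x hx
        rw [mem_bot, inv_mul_eq_one] at hij
        have key : ∀ n : ℕ, ((u : MulAut Q) ^ n) a = a ∧ ((u : MulAut Q) ^ n) b = a ^ n * b := by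
          intro n
          induction n with
          | zero => simp
          | succ n ih =>
            refine ⟨by rw [pow_succ', MulAut.mul_apply, ih.1, ← hua], ?_⟩
            rw [pow_succ', MulAut.mul_apply, ih.2, map_mul, map_pow, ← hua, ← hub, ← mul_assoc,
              pow_succ]
        rw [hij, map_mul, map_zpow, map_zpow, (key p).1, (key p).2, hap, one_mul]
      exact exp_p_of_shear hp5 (hS.to_le hQ.1) hap hbp (fun h => haZ (by rw [h]; exact one_mem _))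
        (fun x hx => by
          obtain ⟨i, j, hij⟩ := hgen x ((hE x).2 hx)
          rw [mem_bot, inv_mul_eq_one] at hij
          exact ⟨i, j, hij⟩) hua.symm hub.symm hva.symm hup
    have hEtop : E = ⊤ := (eq_top_iff' E).2 fun x => (hE x).2 (hexp x)
    subst hEtop
    rw [card_top] at hEc
    exact ⟨hEc, hexp, hcomm, hdiag⟩
  · exact absurd h2 (bad_not_case_two hp5 hS hF hrk hQ hc P hP)

end Cfsg.Agent.H791
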