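import Cfsg.Agent.H791.LemB
import Cfsg.Agent.S0126

/-!
# The extraspecial case is impossible for `p ≥ 5` (helper791)
-/

set_option autoImplicit false

namespace Cfsg.Agent.H791

open Subgroup
open scoped commutatorElement

variable {p : ℕ} [hp : Fact p.Prime]

theorem map_zOf {R N : Type*} [Group R] [Group N] {i : R →* N} (hi : Function.Injective i)
    (E : Subgroup R) : zOf (E.map i) = (zOf E).map i := by
  ext x
  rw [mem_zOf]
  constructor
  · rintro ⟨⟨r, hr, rfl⟩, h⟩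
    refine ⟨r, mem_zOf.2 ⟨hr, fun y hy => hi ?_⟩, rfl⟩
    rw [map_mul, map_mul]
    exact h _ ⟨y, hy, rfl⟩
  · rintro ⟨r, hr, rfl⟩
    have hr' := mem_zOf.1 hr
    refine ⟨⟨r, hr'.1, rfl⟩, ?_⟩
    rintro _ ⟨y, hy, rfl⟩
    rw [← map_mul, ← map_mul, hr'.2 y hy]

theorem card_map_inj {R N : Type*} [Group R] [Group N] {i : R →* N} (hi : Function.Injective i)
    (E : Subgroup R) : Nat.card (E.map i) = Nat.card E :=
  (Nat.card_congr (E.equivMapOfInjective i hi).toEquiv).symm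

omit hp in
theorem rank_of_injective {R N : Type*} [Group R] [Group N] {i : R →* N} (hi : Function.Injective i)
    (hrk : ∀ E : Subgroup N, IsElementaryAbelian p E → Nat.card E ≤ p ^ 2) :
    ∀ E : Subgroup R, IsElementaryAbelian p E → Nat.card E ≤ p ^ 2 := by
  intro E hE
  rw [← card_map_inj hi]
  refine hrk _ ⟨⟨⟨?_⟩⟩, ?_⟩
  · rintro ⟨_, x, hx, rfl⟩ ⟨_, y, hy, rfl⟩
    apply Subtype.ext
    have := congrArg Subtype.val (hE.1.1.1 ⟨x, hx⟩ ⟨y, hy⟩)
    show i x * i y = i y * i x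
    rw [← map_mul, ← map_mul]
    exact congrArg i this
  · rintro _ ⟨x, hx, rfl⟩
    rw [← map_pow, hE.2 x hx, map_one]

theorem case_two {R N : Type*} [Group R] [Group N] [Finite N] (hp5 : 5 ≤ p) (hN : IsPGroup p N)
    (hrk : ∀ E : Subgroup N, IsElementaryAbelian p E → Nat.card E ≤ p ^ 2) {i : R →* N}
    (hi : Function.Injective i) (c : N →* MulAut R) (hc : ∀ (y : N) (x : R), i (c y x) = y * i x * y⁻¹)
    (hcinn : ∀ (y : N) (x : R), c y = MulAut.conj x → y ∈ i.range)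
    (A : Subgroup (MulAut R)) (P : Subgroup A) (hPp : IsPGroup p P)
    (hcP : ∀ y : N, ∃ g ∈ P, (g : MulAut R) = c y)
    (hPc : ∀ g ∈ P, ∃ y : N, (g : MulAut R) = c y)
    (hext : ∀ h : A, (∀ g ∈ P, h * g * h⁻¹ ∈ P) →
      ∃ α : MulAut N, ∀ x, α (i x) = i ((h : MulAut R) x))
    {E : Subgroup R} (hE : E.Characteristic) (hexp : ∀ x ∈ E, x ^ p = 1) (hEc : Nat.card E = p ^ 3)
    (hZc : Nat.card (zOf E) = p) (hcl : ∀ x ∈ E, ∀ y ∈ E, ⁅x, y⁆ ∈ zOf E)
    (hinn : ∀ g : R, ∃ e ∈ E, ∀ x ∈ E, g * x * g⁻¹ = e * x * e⁻¹)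
    (hker : ∀ g ∈ A, (∀ x ∈ E, x⁻¹ * g x ∈ zOf E) → ∃ x : R, g = MulAut.conj x)
    (hdiag : HasDiag p A P E (zOf E)) : False := by
  have hp2 : p ≠ 2 := by omega
  have hR : IsPGroup p R := hN.of_injective i hi
  have hRfin : Finite R := Finite.of_injective i hi
  have hrkR := rank_of_injective hi hrk
  obtain ⟨u, huP, v, a, haE, b, hbE, haZ, hbaZ, hgen, hua, hub, -, -, -, hPab, hd⟩ := hdiag
  -- the centralizer of `E` in `R` is cyclic
  set D : Subgroup R := centralizer (E : Set R) with hD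
  have hDchar : D.Characteristic := by
    rw [characteristic_iff_le_comap]
    intro α x hx
    rw [mem_comap, hD, mem_centralizer_iff]
    intro y hy
    rw [hD, mem_centralizer_iff] at hx
    have h1 := hx (α⁻¹ y) (char_apply_mem hE α⁻¹ hy)
    have h2 := congrArg α h1
    rw [map_mul, map_mul, MulAut.apply_inv_self] at h2
    exact h2
  have hDΩ : ∀ x ∈ D, x ^ p = 1 → x ∈ zOf E := by
    intro x hx hxp
    -- the elementary abelian subgroup `Z ⟨a⟩`
    have hZel : IsElementaryAbelian p (zOf E) := by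
      refine ⟨⟨⟨fun x y => Subtype.ext ?_⟩⟩, fun x hx => hexp x (zOf_le E hx)⟩
      exact (mem_zOf.1 y.2).2 x (zOf_le E x.2)
    have h1 := Cfsg.Agent.PLocal.ZJ.isElementaryAbelian_sup_zpowers hZel (hexp a haE)
      (fun y hy => ((mem_zOf.1 hy).2 a haE).symm)
    have h2 : zOf E < zOf E ⊔ zpowers a := by
      refine lt_of_le_of_ne le_sup_left fun h => haZ ?_
      rw [h]
      exact (le_sup_right : zpowers a ≤ _) (mem_zpowers a)
    have h3 : Nat.card (zOf E ⊔ zpowers a : Subgroup R) = p ^ 2 := by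
      obtain ⟨l, hl⟩ := IsPGroup.iff_card.1 (hR.to_subgroup (zOf E ⊔ zpowers a))
      have h4 : Nat.card (zOf E) < Nat.card (zOf E ⊔ zpowers a : Subgroup R) :=
        Set.ncard_lt_ncard h2 (Set.toFinite _)
      have h5 := hrkR _ h1
      rw [hl] at h4 h5 ⊢
      rw [hZc] at h4
      have h6 : l ≤ 2 := (Nat.pow_le_pow_iff_right hp.out.one_lt).1 h5
      have h7 : 1 < l := by
        rw [← Nat.pow_lt_pow_iff_right hp.out.one_lt]
        rwa [pow_one]
      have h8 : l = 2 := by omega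
      rw [h8]
    have h4 : zOf E ⊔ zpowers a ≤ E := sup_le (zOf_le E) (by rwa [zpowers_le])
    have h5 : x ∈ zOf E ⊔ zpowers a := by
      refine mem_of_comm hrkR h1 h3 hxp fun y hy => ?_
      exact mem_centralizer_iff.1 hx y (h4 hy)
    exact mem_zOf.2 ⟨h4 h5, fun y hy => mem_centralizer_iff.1 hx y hy⟩
  have hDcyc : IsCyclic D := by
    by_contra hnc
    obtain ⟨B, -, hBel, hBc⟩ := Cfsg.Agent.S0126.result hp2 (hR.to_subgroup D) hnc
    have h1 : B.map D.subtype ≤ zOf E := by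
      rintro _ ⟨x, hx, rfl⟩
      refine hDΩ _ x.2 ?_
      rw [← map_pow, hBel.2 x hx, map_one]
    have h2 : Nat.card (B.map D.subtype) ≤ Nat.card (zOf E) := Nat.card_mono (Set.toFinite _) h1
    rw [card_map_inj D.subtype_injective, hBc, hZc] at h2
    have h3 : p ^ 2 ≤ p ^ 1 := by rwa [pow_one]
    have h4 := (Nat.pow_le_pow_iff_right hp.out.one_lt).1 h3
    omega
  obtain ⟨d, hd0⟩ := hDcyc.exists_generator
  have hDpow : ∀ (β : MulAut R), ∃ k : ℤ, ∀ x ∈ D, β x = x ^ k := by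
    intro β
    obtain ⟨k, hk⟩ := mem_zpowers_iff.1 (hd0 ⟨β d, char_apply_mem hDchar β d.2⟩)
    have hk' : (d : R) ^ k = β d := congrArg Subtype.val hk
    refine ⟨k, fun x hx => ?_⟩
    obtain ⟨l, hl⟩ := mem_zpowers_iff.1 (hd0 ⟨x, hx⟩)
    have hl' : (d : R) ^ l = x := congrArg Subtype.val hl
    rw [← hl', map_zpow, ← hk', ← zpow_mul, ← zpow_mul, mul_comm]
  have hDcommA : ∀ (β γ : MulAut R), ∀ x ∈ D, β (γ x) = γ (β x) := by
    intro β γ x hx
    obtain ⟨k, hk⟩ := hDpow β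
    obtain ⟨l, hl⟩ := hDpow γ
    rw [hl x hx, hk x hx, map_zpow, map_zpow, hk x hx, hl x hx, ← zpow_mul, ← zpow_mul, mul_comm]
  have hDabel : ∀ x ∈ D, ∀ y ∈ D, x * y = y * x := by
    intro x hx y hy
    obtain ⟨k, hk⟩ := mem_zpowers_iff.1 (hd0 ⟨x, hx⟩)
    obtain ⟨l, hl⟩ := mem_zpowers_iff.1 (hd0 ⟨y, hy⟩)
    have hk' : (d : R) ^ k = x := congrArg Subtype.val hk
    have hl' : (d : R) ^ l = y := congrArg Subtype.val hl
    rw [← hk', ← hl', ← zpow_add, ← zpow_add, add_comm]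
  have hinnD : ∀ (g : R), ∀ x ∈ D, MulAut.conj g x = x := by
    intro g x hx
    obtain ⟨e, he, hge⟩ := hinn g
    have h1 : e⁻¹ * g ∈ D := by
      rw [hD, mem_centralizer_iff]
      intro y hy
      have h2 := hge y hy
      calc y * (e⁻¹ * g) = e⁻¹ * (e * y * e⁻¹) * g := by group
        _ = e⁻¹ * (g * y * g⁻¹) * g := by rw [h2]
        _ = e⁻¹ * g * y := by group
    have h3 : e * x = x * e := mem_centralizer_iff.1 hx e he
    have h4 := hDabel _ h1 x hx
    rw [MulAut.conj_apply]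
    calc g * x * g⁻¹ = e * ((e⁻¹ * g) * x) * g⁻¹ := by group
      _ = e * (x * (e⁻¹ * g)) * g⁻¹ := by rw [h4]
      _ = (e * x) * e⁻¹ := by group
      _ = (x * e) * e⁻¹ := by rw [h3]
      _ = x := by group
  -- the action on `E / Z`
  have hZchar := zOf_char hE
  have hZn : (zOf E).Normal := normal_of_characteristic _
  let V := E ⧸ (zOf E).subgroupOf E
  have hmk : ∀ x y : E, (QuotientGroup.mk x : V) = QuotientGroup.mk y ↔ (x : R)⁻¹ * y ∈ zOf E := by
    intro x y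
    rw [QuotientGroup.eq, mem_subgroupOf]
    rfl
  let ρ : MulAut R →* MulAut V := secAut E (zOf E) hE hZchar
  have hρ : ∀ (g : MulAut R) (x : E), ρ g (QuotientGroup.mk x) =
      QuotientGroup.mk (⟨g x, char_apply_mem hE _ x.2⟩ : E) := fun g x => rfl
  have hVc : ∀ v w : V, v * w = w * v := by
    intro q r
    obtain ⟨x, rfl⟩ := QuotientGroup.mk_surjective q
    obtain ⟨y, rfl⟩ := QuotientGroup.mk_surjective r
    rw [← QuotientGroup.mk_mul, ← QuotientGroup.mk_mul, hmk]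
    have h1 := hcl _ (E.inv_mem y.2) _ (E.inv_mem x.2)
    have h2 : ⁅(y : R)⁻¹, (x : R)⁻¹⁆ = ((x * y : E) : R)⁻¹ * ((y * x : E) : R) := by
      push_cast
      rw [commutatorElement_def]
      group
    rwa [h2] at h1
  set a' : V := QuotientGroup.mk (⟨a, haE⟩ : E) with ha'
  set b' : V := QuotientGroup.mk (⟨b, hbE⟩ : E) with hb'
  have hVp : ∀ v : V, v ^ p = 1 := by
    intro v
    obtain ⟨x, rfl⟩ := QuotientGroup.mk_surjective v
    rw [← QuotientGroup.mk_pow]
    have : x ^ p = 1 := Subtype.ext (by push_cast; exact hexp x x.2)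
    rw [this, QuotientGroup.mk_one]
  have hVgen : ∀ v : V, ∃ i j : ℤ, v = a' ^ i * b' ^ j := by
    intro v
    obtain ⟨x, rfl⟩ := QuotientGroup.mk_surjective v
    obtain ⟨i, j, hij⟩ := hgen x x.2
    exact ⟨i, j, (hmk _ (⟨a, haE⟩ ^ i * ⟨b, hbE⟩ ^ j)).2 hij⟩
  have hext' : ∀ f g : MulAut V, f a' = g a' → f b' = g b' → f = g := by
    intro f g h1 h2
    apply MulEquiv.ext
    intro v
    obtain ⟨i, j, rfl⟩ := hVgen v
    rw [map_mul, map_mul, map_zpow, map_zpow, map_zpow, map_zpow, h1, h2]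
  have hkerD : ∀ (g h : A), ρ g = ρ h → ∀ x ∈ D, (g : MulAut R) x = (h : MulAut R) x := by
    intro g h hgh x hx
    have h1 : ∀ y ∈ E, y⁻¹ * ((h⁻¹ * g : A) : MulAut R) y ∈ zOf E := by
      intro y hy
      have h2 : ρ ((h⁻¹ * g : A) : MulAut R) (QuotientGroup.mk (⟨y, hy⟩ : E)) =
          QuotientGroup.mk (⟨y, hy⟩ : E) := by
        push_cast
        rw [map_mul, map_inv, hgh, inv_mul_cancel, MulAut.one_apply]
      rw [hρ] at h2
      exact (hmk _ _).1 h2.symm
    obtain ⟨r, hr⟩ := hker _ (h⁻¹ * g).2 h1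
    have h3 := hinnD r x hx
    rw [← hr] at h3
    have h4 := congrArg (h : MulAut R) h3
    have h5 : (h : MulAut R) (((h⁻¹ * g : A) : MulAut R) x) = (g : MulAut R) x := by
      push_cast
      rw [← MulAut.mul_apply, mul_inv_cancel_left]
    rwa [h5] at h4
  -- `P` acts trivially on `D`
  have hPD : ∀ g ∈ P, ∀ x ∈ D, (g : MulAut R) x = x := by
    intro g hg x hx
    obtain ⟨n, hn⟩ : ∃ n : ℤ, 2 * n ≡ 1 [ZMOD p] := by
      refine exists_inv_mod fun h => ?_
      have h1 := Int.le_of_dvd (by norm_num) (Int.modEq_zero_iff_dvd.1 h)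
      omega
    obtain ⟨h, hha, hhb, -⟩ := hd 2 n hn
    obtain ⟨hga, i, hgb⟩ := hPab g hg
    have e1 : ρ h a' = a' ^ (2 : ℤ) := by
      rw [ha', hρ]
      exact ((hmk ((⟨a, haE⟩ : E) ^ (2 : ℤ)) ⟨(h : MulAut R) a, char_apply_mem hE _ haE⟩).2 hha).symm
    have e2 : ρ h b' = b' ^ n := by
      rw [hb', hρ]
      exact ((hmk ((⟨b, hbE⟩ : E) ^ n) ⟨(h : MulAut R) b, char_apply_mem hE _ hbE⟩).2 hhb).symm
    have e3 : ρ g a' = a' := by
      rw [ha', hρ]
      exact ((hmk _ _).2 hga).symm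
    have e4 : ρ g b' = a' ^ i * b' := by
      rw [hb', hρ]
      exact ((hmk ((⟨a, haE⟩ : E) ^ i * ⟨b, hbE⟩) ⟨(g : MulAut R) b, char_apply_mem hE _ hbE⟩).2 hgb).symm
    have e5 : ∀ k : ℕ, ρ ((g : MulAut R) ^ k) a' = a' ∧ ρ ((g : MulAut R) ^ k) b' = a' ^ (i * k) * b' := by
      intro k
      induction k with
      | zero => simp
      | succ k ih =>
        refine ⟨by rw [pow_succ', map_mul, MulAut.mul_apply, ih.1, e3], ?_⟩
        rw [pow_succ', map_mul, MulAut.mul_apply, ih.2, map_mul, map_zpow, e3, e4, ← mul_assoc,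
          ← zpow_add]
        congr 2
        push_cast
        ring
    have e6 : ρ ((h * g : A) : MulAut R) = ρ ((g ^ 4 * h : A) : MulAut R) := by
      push_cast
      refine hext' _ _ ?_ ?_
      · rw [map_mul, map_mul, MulAut.mul_apply, MulAut.mul_apply, e3, e1, map_zpow, (e5 4).1]
      · rw [map_mul, map_mul, MulAut.mul_apply, MulAut.mul_apply, e4, map_mul, map_zpow, e1, e2,
          map_zpow, (e5 4).2, (show Commute (a' ^ (i * ((4 : ℕ) : ℤ))) b' from hVc _ _).mul_zpow]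
        congr 1
        rw [← zpow_mul, ← zpow_mul]
        apply zpow_congr (hVp a')
        calc 2 * i = 2 * i * 1 := by ring
          _ ≡ 2 * i * (2 * n) [ZMOD p] := Int.ModEq.mul_left _ hn.symm
          _ = i * ((4 : ℕ) : ℤ) * n := by push_cast; ring
    have e7 := hkerD _ _ e6 x hx
    push_cast at e7
    rw [MulAut.mul_apply, MulAut.mul_apply, hDcommA ((g : MulAut R) ^ 4) h x hx] at e7
    have e8 := (h : MulAut R).injective e7
    -- `g x = g ^ 4 x`
    have e9 : ((g : MulAut R) ^ 3) x = x := by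
      have h1 : (g : MulAut R) (((g : MulAut R) ^ 3) x) = (g : MulAut R) x := by
        rw [← MulAut.mul_apply, ← pow_succ', ← e8]
      exact (g : MulAut R).injective h1
    obtain ⟨k, hk⟩ := hPp ⟨g, hg⟩
    have hk' : (g : MulAut R) ^ p ^ k = 1 := by
      simpa using congrArg (fun t : P => ((t : A) : MulAut R)) hk
    have h3 : Nat.Coprime 3 (orderOf (g : MulAut R)) := by
      refine Nat.Coprime.coprime_dvd_right (orderOf_dvd_of_pow_eq_one hk') ?_
      refine Nat.Coprime.pow_right k ?_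
      rw [Nat.coprime_primes Nat.prime_three hp.out]
      omega
    obtain ⟨m, hm⟩ := exists_pow_eq_self_of_coprime h3
    have e10 : ∀ m : ℕ, (((g : MulAut R) ^ 3) ^ m) x = x := by
      intro m
      induction m with
      | zero => simp
      | succ m ih => rw [pow_succ', MulAut.mul_apply, ih, e9]
    rw [← hm]
    exact e10 m
  -- the automorphism of `N`
  obtain ⟨m, hm⟩ : ∃ m : ℤ, 2 * m ≡ 1 [ZMOD p] := by
    refine exists_inv_mod fun h => ?_
    have h1 := Int.le_of_dvd (by norm_num) (Int.modEq_zero_iff_dvd.1 h)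
    omega
  rw [mul_comm] at hm
  obtain ⟨h, -, hhb, hhP⟩ := hd m 2 hm
  obtain ⟨α, hα⟩ := hext h hhP
  obtain ⟨yu, hyu⟩ := hPc u huP
  have hZ' := map_zOf hi E
  have hEn : (E.map i).Normal := by
    refine ⟨?_⟩
    rintro _ ⟨x, hx, rfl⟩ y
    rw [← hc]
    exact ⟨_, char_apply_mem hE _ hx, rfl⟩
  have hZn' : (zOf (E.map i)).Normal := by
    rw [hZ']
    refine ⟨?_⟩
    rintro _ ⟨x, hx, rfl⟩ y
    rw [← hc]
    exact ⟨_, char_apply_mem hZchar _ hx, rfl⟩
  have hfin := lemma_b (E := E.map i) hN hrk hEn ?_ ?_ ?_ ?_ ?_ α ?_ (e := i b) ⟨b, hbE, rfl⟩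
    (g := yu) ?_ (b := 2) ?_
  · have h1 : (p : ℤ) ∣ 1 - 2 * 2 := hfin.dvd
    have h2 : (p : ℤ) ∣ 3 := by
      have h3 : (1 - 2 * 2 : ℤ) = -3 := by norm_num
      rw [h3] at h1
      exact (dvd_neg.1 h1)
    have h3 := Int.le_of_dvd (by norm_num) h2
    omega
  · rintro _ ⟨x, hx, rfl⟩
    rw [← map_pow, hexp x hx, map_one]
  · rw [card_map_inj hi, hEc]
  · rw [hZ', card_map_inj hi, hZc]
  · rintro _ ⟨x, hx, rfl⟩ _ ⟨y, hy, rfl⟩
    rw [← map_commutatorElement, hZ']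
    exact ⟨_, hcl x hx y hy, rfl⟩
  · -- the centralizer of `E` is central
    intro t ht y
    have h1 : ∀ x ∈ E, c t x = x := by
      intro x hx
      apply hi
      rw [hc, ht _ ⟨x, hx, rfl⟩, mul_inv_cancel_right]
    obtain ⟨g, hgP, hg⟩ := hcP t
    obtain ⟨r, hr⟩ := hker (c t) (hg ▸ g.2) (fun x hx => by
      rw [h1 x hx, inv_mul_cancel]
      exact one_mem _)
    obtain ⟨x, rfl⟩ := hcinn t r hr
    have hxD : x ∈ D := by
      rw [hD, mem_centralizer_iff]
      intro y hy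
      apply hi
      rw [map_mul, map_mul]
      exact (ht _ ⟨y, hy, rfl⟩).symm
    obtain ⟨g', hg'P, hg'⟩ := hcP y
    have h2 := hPD g' hg'P x hxD
    rw [hg'] at h2
    have h3 := hc y x
    rw [h2] at h3
    calc i x * y = (y * i x * y⁻¹) * y := by rw [← h3]
      _ = y * i x := by group
  · rintro _ ⟨x, hx, rfl⟩
    rw [hα]
    exact ⟨_, char_apply_mem hE _ hx, rfl⟩
  · rw [hZ']
    rintro ⟨x, hx, hx'⟩
    have h1 : i x = i ((u : MulAut R) b * b⁻¹) := by
      rw [hx', commutatorElement_def, ← hc, ← hyu, ← map_inv, ← map_mul]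
    have h2 := hi h1
    apply haZ
    -- `u b = a b z`
    have h3 : a = ((u : MulAut R) b * b⁻¹) * (b * ((a * b)⁻¹ * (u : MulAut R) b)⁻¹ * b⁻¹) := by
      group
    rw [h3, ← h2]
    exact mul_mem hx (hZn.conj_mem _ (inv_mem hub) b)
  · intro g
    have h1 : (i b ^ (2 : ℤ))⁻¹ * α (i b) ∈ zOf (E.map i) := by
      rw [hZ', hα, ← map_zpow, ← map_inv, ← map_mul]
      exact ⟨_, hhb, rfl⟩
    rw [commutatorElement_def]
    exact mul_mem (hZn'.conj_mem _ h1 g) (inv_mem h1)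

end Cfsg.Agent.H791
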