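import Mathlib

/-!
# Semidirect products of a free group with a group permuting the basis (helper791)

`E = FreeGroup X ⋊ W`, where `W` permutes `X`. For `g ∈ E` the length and the first letter of the reduced word of
`g.left` are used: two elements of a finite subgroup with nontrivial free parts have the same first letter.
-/

set_option autoImplicit false

namespace Cfsg.Agent.H791.FreeAct

open FreeGroup

variable {X : Type*}

/-- the reduced word -/
noncomputable def word (w : FreeGroup X) : List (X × Bool) := @toWord X (Classical.decEq X) w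

theorem mk_word (w : FreeGroup X) : FreeGroup.mk (word w) = w := @mk_toWord X (Classical.decEq X) w

theorem isReduced_word (w : FreeGroup X) : IsReduced (word w) :=
  @isReduced_toWord X (Classical.decEq X) w

theorem word_mk {L : List (X × Bool)} (h : IsReduced L) : word (FreeGroup.mk L) = L := by
  let _ := Classical.decEq X
  have h1 : toWord (FreeGroup.mk L) = L := by
    rw [toWord_mk]
    exact h.reduce_eq
  exact h1

theorem word_inv (w : FreeGroup X) : word w⁻¹ = invRev (word w) :=
  @toWord_inv X (Classical.decEq X) w

@[simp] theorem word_one : word (1 : FreeGroup X) = [] := @toWord_one X (Classical.decEq X)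

theorem word_eq_nil {w : FreeGroup X} : word w = [] ↔ w = 1 :=
  @toWord_eq_nil_iff X (Classical.decEq X) w

theorem word_of (x : X) : word (FreeGroup.of x) = [(x, true)] := @toWord_of X (Classical.decEq X) x

theorem length_word_mk_le (L : List (X × Bool)) : (word (FreeGroup.mk L)).length ≤ L.length :=
  @norm_mk_le X L (Classical.decEq X)

/-- the first letter -/
noncomputable def fst (w : FreeGroup X) : Option (X × Bool) := (word w).head?

theorem fst_inv (w : FreeGroup X) :
    fst w⁻¹ = (word w).getLast?.map (fun a => (a.1, !a.2)) := by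
  rw [fst, word_inv, invRev, List.head?_reverse, List.getLast?_map]

theorem word_mul {v w : FreeGroup X} (h : v ≠ 1 → fst v⁻¹ ≠ fst w) :
    word (v * w) = word v ++ word w := by
  have h1 : IsReduced (word v ++ word w) := by
    rw [FreeGroup.IsReduced, List.isChain_append]
    refine ⟨isReduced_word v, isReduced_word w, ?_⟩
    intro a ha b hb hab
    by_contra hne
    have hv : v ≠ 1 := by
      intro h0
      rw [h0, word_one] at ha
      simp at ha
    apply h hv
    rw [fst_inv, fst]
    rw [Option.mem_def] at ha hb
    rw [ha, hb, Option.map_some]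
    congr 1
    refine Prod.ext hab ?_
    show (!a.2) = b.2
    cases h2 : a.2 <;> cases h3 : b.2 <;> simp_all
  have h2 : v * w = FreeGroup.mk (word v ++ word w) := by
    rw [← mul_mk, mk_word, mk_word]
  rw [h2, word_mk h1]

section action

variable {W : Type*} [Group W] [MulAction W X]

/-- `W` acts on the free group -/
def act : W →* MulAut (FreeGroup X) where
  toFun s := FreeGroup.freeGroupCongr (MulAction.toPerm s)
  map_one' := by
    apply MulEquiv.ext
    intro w
    have h1 : (FreeGroup.freeGroupCongr (MulAction.toPerm (1 : W)) : FreeGroup X ≃* FreeGroup X).toMonoidHom =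
        MonoidHom.id _ := by
      apply FreeGroup.ext_hom
      intro x
      simp
    exact DFunLike.congr_fun h1 w
  map_mul' s t := by
    apply MulEquiv.ext
    intro w
    have h1 : (FreeGroup.freeGroupCongr (MulAction.toPerm (s * t)) : FreeGroup X ≃* FreeGroup X).toMonoidHom =
        ((FreeGroup.freeGroupCongr (MulAction.toPerm s) : FreeGroup X ≃* FreeGroup X).toMonoidHom).comp
          (FreeGroup.freeGroupCongr (MulAction.toPerm t) : FreeGroup X ≃* FreeGroup X).toMonoidHom := by
      apply FreeGroup.ext_hom
      intro x
      simp [mul_smul]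
    exact DFunLike.congr_fun h1 w

theorem act_of (s : W) (x : X) : act s (FreeGroup.of x) = FreeGroup.of (s • x) := by
  show FreeGroup.freeGroupCongr (MulAction.toPerm s) (FreeGroup.of x) = _
  simp

theorem act_mk (s : W) (L : List (X × Bool)) :
    act s (FreeGroup.mk L) = FreeGroup.mk (L.map fun a => (s • a.1, a.2)) := by
  show FreeGroup.freeGroupCongr (MulAction.toPerm s) (FreeGroup.mk L) = _
  rw [FreeGroup.freeGroupCongr_apply, FreeGroup.map.mk]
  rfl

theorem word_act (s : W) (w : FreeGroup X) :
    word (act s w) = (word w).map fun a => (s • a.1, a.2) := by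
  have h1 : IsReduced ((word w).map fun a => (s • a.1, a.2)) := by
    rw [FreeGroup.IsReduced, List.isChain_map]
    refine List.IsChain.imp ?_ (isReduced_word w)
    intro a b hab h
    exact hab (smul_left_cancel s h)
  conv_lhs => rw [← mk_word w, act_mk]
  exact word_mk h1

/-- action on optional letters -/
def sm (s : W) (o : Option (X × Bool)) : Option (X × Bool) := o.map fun a => (s • a.1, a.2)

theorem sm_mul (s t : W) (o : Option (X × Bool)) : sm (s * t) o = sm s (sm t o) := by
  cases o <;> simp [sm, mul_smul]

theorem sm_one (o : Option (X × Bool)) : sm (1 : W) o = o := by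
  cases o <;> simp [sm]

theorem sm_injective (s : W) : Function.Injective (sm (X := X) s) := by
  intro a b h
  have h1 := congrArg (sm s⁻¹) h
  rwa [← sm_mul, ← sm_mul, inv_mul_cancel, sm_one, sm_one] at h1

theorem fst_act (s : W) (w : FreeGroup X) : fst (act s w) = sm s (fst w) := by
  rw [fst, word_act, List.head?_map]
  rfl

/-- the semidirect product -/
abbrev E (X W : Type*) [Group W] [MulAction W X] := FreeGroup X ⋊[act] W

/-- the first letter -/
noncomputable def F (g : E X W) : Option (X × Bool) := fst g.left

theorem F_inv (g : E X W) : F g⁻¹ = sm g.right⁻¹ (fst g.left⁻¹) := by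
  rw [F, SemidirectProduct.inv_left, fst_act]

theorem F_eq_none {g : E X W} : F g = none ↔ g.left = 1 := by
  rw [F, fst, List.head?_eq_none_iff, word_eq_nil]

theorem word_mul_left {g h : E X W} (hgh : g.left ≠ 1 → F g⁻¹ ≠ F h) :
    word (g * h).left = word g.left ++ (word h.left).map fun a => (g.right • a.1, a.2) := by
  rw [SemidirectProduct.mul_left, word_mul, word_act]
  intro h1 h2
  apply hgh h1
  rw [F_inv, h2, fst_act, ← sm_mul, inv_mul_cancel, sm_one]
  rfl

theorem F_mul {g h : E X W} (hg : g.left ≠ 1) (hgh : F g⁻¹ ≠ F h) : F (g * h) = F g := by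
  rw [F, fst, word_mul_left (fun _ => hgh)]
  have h1 : word g.left ≠ [] := fun h => hg (word_eq_nil.1 h)
  rw [List.head?_append_of_ne_nil _ h1]
  rfl

theorem length_mul {g h : E X W} (hgh : g.left ≠ 1 → F g⁻¹ ≠ F h) :
    (word (g * h).left).length = (word g.left).length + (word h.left).length := by
  rw [word_mul_left hgh, List.length_append, List.length_map]

theorem left_inr_mul (s : W) (g : E X W) :
    (SemidirectProduct.inr s * g).left = act s g.left := by
  rw [SemidirectProduct.mul_left, SemidirectProduct.left_inr, SemidirectProduct.right_inr, one_mul]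

theorem left_mul_inr (s : W) (g : E X W) :
    (g * SemidirectProduct.inr s).left = g.left := by
  rw [SemidirectProduct.mul_left, SemidirectProduct.left_inr, _root_.map_one, mul_one]

theorem F_inr_mul (s : W) (g : E X W) : F (SemidirectProduct.inr s * g) = sm s (F g) := by
  rw [F, left_inr_mul, fst_act]
  rfl

theorem F_mul_inr (s : W) (g : E X W) : F (g * SemidirectProduct.inr s) = F g := by
  rw [F, left_mul_inr]
  rfl

theorem length_inr_mul (s : W) (g : E X W) :
    (word (SemidirectProduct.inr s * g).left).length = (word g.left).length := by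
  rw [left_inr_mul, word_act, List.length_map]

theorem left_inv_ne {g : E X W} (hg : g.left ≠ 1) : (g⁻¹).left ≠ 1 := by
  rw [SemidirectProduct.inv_left]
  intro h
  rw [EmbeddingLike.map_eq_one_iff, inv_eq_one] at h
  exact hg h

/-- elements without cancellation in `g * g` have infinite order -/
theorem F_inv_eq_of_finite {g : E X W} (hg : g.left ≠ 1) (hfin : IsOfFinOrder g) : F g⁻¹ = F g := by
  by_contra hne
  have key : ∀ n : ℕ, F (g ^ (n + 1)) = F g ∧
      (word (g ^ (n + 1)).left).length = (n + 1) * (word g.left).length := by
    intro n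
    induction n with
    | zero => simp
    | succ n ih =>
      rw [pow_succ']
      have h1 : F g⁻¹ ≠ F (g ^ (n + 1)) := by rw [ih.1]; exact hne
      refine ⟨F_mul hg h1, ?_⟩
      rw [length_mul (fun _ => h1), ih.2]
      ring
  obtain ⟨n, hn, hgn⟩ := isOfFinOrder_iff_pow_eq_one.1 hfin
  obtain ⟨m, rfl⟩ : ∃ m, n = m + 1 := ⟨n - 1, by omega⟩
  have h1 := (key m).2
  rw [hgn, SemidirectProduct.one_left, word_one, List.length_nil] at h1
  have h2 : 0 < (word g.left).length := by
    rw [List.length_pos_iff]
    intro h
    exact hg (word_eq_nil.1 h)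
  have h3 : 0 < (m + 1) * (word g.left).length := by positivity
  omega

/-- nontrivial elements of a finite subgroup have the same first letter -/
theorem F_eq_of_mem {H : Subgroup (E X W)} (hH : Finite H) {h k : E X W} (hh : h ∈ H) (hk : k ∈ H)
    (hh1 : h.left ≠ 1) (hk1 : k.left ≠ 1) : F h = F k := by
  have hfin : ∀ g ∈ H, IsOfFinOrder g := by
    intro g hg
    have h1 := isOfFinOrder_of_finite (⟨g, hg⟩ : H)
    exact (Submonoid.isOfFinOrder_coe (H := H.toSubmonoid) (x := ⟨g, hg⟩)).2 h1
  by_contra hne
  have e1 := F_inv_eq_of_finite hh1 (hfin h hh)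
  have e2 := F_inv_eq_of_finite hk1 (hfin k hk)
  have h1 : F (h * k) = F h := F_mul hh1 (by rw [e1]; exact hne)
  have h2 : F (k⁻¹ * h⁻¹) = F k⁻¹ := F_mul (left_inv_ne hk1) (by
    rw [inv_inv, e1]; exact fun h => hne h.symm)
  have h3 : (h * k).left ≠ 1 := by
    intro h0
    rw [← F_eq_none, h1, F_eq_none] at h0
    exact hh1 h0
  have h4 := F_inv_eq_of_finite h3 (hfin _ (H.mul_mem hh hk))
  rw [mul_inv_rev, h2, h1, e2] at h4
  exact hne h4.symm

end action

end Cfsg.Agent.H791.FreeAct
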