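import Cfsg.Agent.H791.TwoDim

/-!
# No shears of order `p` on homocyclic groups of rank 2 and exponent at least `p ^ 2`, `p ≥ 5` (helper791)
-/

set_option autoImplicit false

namespace Cfsg.Agent.H791

open Subgroup

variable {p : ℕ} [hp : Fact p.Prime] {Q : Type*} [CommGroup Q]

/-- `x ↦ x⁻¹ * u x` -/
def dif (u : MulAut Q) : Q →* Q where
  toFun x := x⁻¹ * u x
  map_one' := by simp
  map_mul' x y := by
    rw [map_mul, mul_inv_rev]
    exact (by
      calc y⁻¹ * x⁻¹ * (u x * u y) = (x⁻¹ * u x) * (y⁻¹ * u y) := by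
            rw [mul_comm y⁻¹ x⁻¹, mul_mul_mul_comm])

theorem dif_apply (u : MulAut Q) (x : Q) : dif u x = x⁻¹ * u x := rfl

theorem apply_eq (u : MulAut Q) (x : Q) : u x = x * dif u x := by
  rw [dif_apply, mul_inv_cancel_left]

/-- powers of a unipotent automorphism -/
theorem pow_apply_of_dif_four (u : MulAut Q) {x : Q} (h : dif u (dif u (dif u (dif u x))) = 1) (n : ℕ) :
    (u ^ n) x = x * dif u x ^ n * dif u (dif u x) ^ (n.choose 2) *
      dif u (dif u (dif u x)) ^ (n.choose 3) := by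
  induction n with
  | zero => simp
  | succ n ih =>
    have e0 : u x = x * dif u x := apply_eq u x
    have e1 : u (dif u x) = dif u x * dif u (dif u x) := apply_eq u _
    have e2 : u (dif u (dif u x)) = dif u (dif u x) * dif u (dif u (dif u x)) := apply_eq u _
    have e3 : u (dif u (dif u (dif u x))) = dif u (dif u (dif u x)) := by
      rw [apply_eq, h, mul_one]
    rw [pow_succ', MulAut.mul_apply, ih]
    simp only [map_mul, map_pow]
    rw [e3, e2, e1, e0, Nat.choose_succ_succ n 1, Nat.choose_succ_succ n 2, Nat.choose_one_right]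
    simp only [mul_pow, pow_add, pow_one]
    generalize dif u x ^ n = X1
    generalize dif u (dif u x) ^ n = X2
    generalize dif u (dif u x) ^ n.choose 2 = X3
    generalize dif u (dif u (dif u x)) ^ n.choose 2 = X4
    generalize dif u (dif u (dif u x)) ^ n.choose 3 = X5
    simp only [mul_assoc, mul_left_comm, mul_comm]

theorem exp_p_of_shear [Finite Q] (hp5 : 5 ≤ p) (hQ : IsPGroup p Q) {u v : MulAut Q} {a b : Q}
    (ha : a ^ p = 1) (hb : b ^ p = 1) (ha1 : a ≠ 1)
    (hE : ∀ x : Q, x ^ p = 1 → ∃ i j : ℤ, x = a ^ i * b ^ j)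
    (hua : u a = a) (hub : u b = a * b) (hva : v a = a * b) (hup : u ^ p = 1)
    (x : Q) : x ^ p = 1 := by
  by_contra hx
  -- the set `M` of `p`-th powers of elements of order dividing `p ^ 2`
  let M : Subgroup Q :=
    { carrier := {y | ∃ x : Q, x ^ (p ^ 2) = 1 ∧ x ^ p = y}
      one_mem' := ⟨1, one_pow _, one_pow _⟩
      mul_mem' := by
        rintro _ _ ⟨x, hx, rfl⟩ ⟨y, hy, rfl⟩
        exact ⟨x * y, by rw [mul_pow, hx, hy, mul_one], mul_pow _ _ _⟩
      inv_mem' := by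
        rintro _ ⟨x, hx, rfl⟩
        exact ⟨x⁻¹, by rw [inv_pow, hx, inv_one], inv_pow _ _⟩ }
  have hMinv : ∀ (w : MulAut Q), ∀ y ∈ M, w y ∈ M := by
    rintro w _ ⟨x, hx, rfl⟩
    exact ⟨w x, by rw [← map_pow, hx, map_one], (map_pow w x p).symm⟩
  -- a nontrivial element of `M`
  obtain ⟨m, hmM, hm1⟩ : ∃ m ∈ M, m ≠ 1 := by
    obtain ⟨k, hk⟩ := IsPGroup.iff_orderOf.1 hQ x
    have hk2 : 2 ≤ k := by
      by_contra hlt
      apply hx
      have h1 : orderOf x ∣ p := by
        rw [hk]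
        calc p ^ k ∣ p ^ 1 := pow_dvd_pow _ (by omega)
          _ = p := pow_one p
      exact orderOf_dvd_iff_pow_eq_one.1 h1
    obtain ⟨l, rfl⟩ : ∃ l, k = l + 2 := ⟨k - 2, by omega⟩
    refine ⟨(x ^ p ^ l) ^ p, ⟨x ^ p ^ l, ?_, rfl⟩, ?_⟩
    · rw [← pow_mul, ← pow_add, ← hk, pow_orderOf_eq_one]
    · rw [← pow_mul, ← pow_succ]
      intro h
      have h2 := orderOf_dvd_of_pow_eq_one h
      rw [hk] at h2
      have h3 := Nat.le_of_dvd (pow_pos hp.out.pos _) h2
      exact absurd h3 (not_le.2 (Nat.pow_lt_pow_right hp.out.one_lt (by omega)))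
  have hMp : ∀ y ∈ M, y ^ p = 1 := by
    rintro _ ⟨x, hx, rfl⟩
    rw [← pow_mul, ← pow_two, hx]
  have hzM : ∀ {c : Q} {i : ℤ}, c ^ p = 1 → ¬ i ≡ 0 [ZMOD p] → c ^ i ∈ M → c ∈ M := by
    intro c i hc hi h
    obtain ⟨j, hj⟩ := exists_inv_mod hi
    have h1 := zpow_mem h j
    rwa [← zpow_mul, zpow_congr hc hj, zpow_one] at h1
  have haM : a ∈ M := by
    obtain ⟨i, j, rfl⟩ := hE m (hMp m hmM)
    by_cases hj : j ≡ 0 [ZMOD p]
    · rw [zpow_congr hb hj, zpow_zero, mul_one] at hmM hm1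
      refine hzM ha (fun hi => hm1 ?_) hmM
      rw [zpow_congr ha hi, zpow_zero]
    · have h1 := M.mul_mem (M.inv_mem hmM) (hMinv u _ hmM)
      have h2 : (a ^ i * b ^ j)⁻¹ * u (a ^ i * b ^ j) = a ^ j := by
        rw [map_mul, map_zpow, map_zpow, hua, hub, mul_zpow]
        have : a ^ i * (a ^ j * b ^ j) = a ^ i * b ^ j * a ^ j := by
          rw [mul_comm (a ^ j) (b ^ j), mul_assoc]
        rw [this, inv_mul_cancel_left]
      rw [h2] at h1
      exact hzM ha hj h1
  have hbM : b ∈ M := by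
    have h1 := M.mul_mem (M.inv_mem haM) (hMinv v _ haM)
    rwa [hva, inv_mul_cancel_left] at h1
  have hEM : ∀ x : Q, x ^ p = 1 → x ∈ M := by
    intro x hx
    obtain ⟨i, j, rfl⟩ := hE x hx
    exact M.mul_mem (M.zpow_mem haM i) (M.zpow_mem hbM j)
  -- `dif u` squared is trivial on `E`
  have hD2 : ∀ x : Q, x ^ p = 1 → dif u (dif u x) = 1 := by
    intro x hx
    obtain ⟨i, j, rfl⟩ := hE x hx
    have h1 : dif u a = 1 := by rw [dif_apply, hua, inv_mul_cancel]
    have h2 : dif u b = a := by rw [dif_apply, hub, mul_comm a b, inv_mul_cancel_left]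
    rw [map_mul, map_zpow, map_zpow, h1, h2, one_zpow, one_mul, map_zpow, h1, one_zpow]
  have hD2p : ∀ x : Q, x ^ (p ^ 2) = 1 → dif u (dif u x) ^ p = 1 := by
    intro x hx
    rw [← map_pow, ← map_pow]
    apply hD2
    rw [← pow_mul, ← pow_two, hx]
  have hD4 : ∀ x : Q, x ^ (p ^ 2) = 1 → dif u (dif u (dif u (dif u x))) = 1 := by
    intro x hx
    obtain ⟨r, hr, hr'⟩ := hEM _ (hD2p x hx)
    rw [← hr', map_pow, map_pow]
    exact hD2p r hr
  -- conclusion
  obtain ⟨y, hy, hyb⟩ := hbM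
  have h1 := pow_apply_of_dif_four u (hD4 y hy) p
  have hdvd2 : p ∣ p.choose 2 := hp.out.dvd_choose_self (by norm_num) (by omega)
  have hdvd3 : p ∣ p.choose 3 := hp.out.dvd_choose_self (by norm_num) (by omega)
  have h2 : dif u (dif u y) ^ p.choose 2 = 1 := by
    obtain ⟨c, hc⟩ := hdvd2
    rw [hc, pow_mul, hD2p y hy, one_pow]
  have h3 : dif u (dif u (dif u y)) ^ p.choose 3 = 1 := by
    obtain ⟨c, hc⟩ := hdvd3
    rw [hc, pow_mul, ← map_pow, hD2p y hy, map_one, one_pow]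
  rw [hup, MulAut.one_apply, h2, h3, mul_one, mul_one] at h1
  have h4 : dif u y ^ p = 1 := by
    have := h1.symm
    rwa [mul_eq_left] at this
  rw [← map_pow, hyb, dif_apply, hub, mul_comm a b, inv_mul_cancel_left] at h4
  exact ha1 h4

end Cfsg.Agent.H791
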