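import Cfsg.Agent.H791.CaseTwo
import Cfsg.Agent.H791.Homocyclic
import Cfsg.Agent.H802.FusAlp
import Cfsg.Agent.H802.FusSub

/-!
# Extension of automorphisms over a normal `p`-subgroup of the automizer, and resistant groups (helper791)

* `preim S Q K`: the elements of `S` inducing on `Q` an element of `K`;
* `exists_extension_preim`: if `K` is a subgroup of `Aut_S(Q)` normalized by `Aut_F(Q)` and `Q` is receptive, every
  `α ∈ Aut_F(Q)` extends to `preim S Q K`, with values in `preim S Q K`;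
* `isNormal_of_no_bad`: if no proper fully normalized centric `Q` has `O_p(Aut_F(Q)) = Inn(Q)`, then `S` is normal in
  the saturated system `F` (Alperin's fusion theorem).
-/

set_option autoImplicit false

namespace Cfsg.Agent.H791

open Subgroup Cfsg Cfsg.FusionSystem
open Cfsg.Agent.H802

variable {Ω : Type*} [Group Ω] {S : Subgroup Ω}

/-- the elements of `S` inducing on `Q` an element of `K` -/
def preim (S Q : Subgroup Ω) (K : Subgroup (MulAut Q)) : Subgroup Ω where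
  carrier := {y | y ∈ S ∧ ∃ k ∈ K, ∀ x : Q, ((k x : Q) : Ω) = y * x * y⁻¹}
  one_mem' := ⟨S.one_mem, 1, K.one_mem, fun x => by simp⟩
  mul_mem' := by
    rintro a b ⟨ha, k, hk, hka⟩ ⟨hb, l, hl, hlb⟩
    refine ⟨S.mul_mem ha hb, k * l, K.mul_mem hk hl, fun x => ?_⟩
    rw [MulAut.mul_apply, hka, hlb]
    group
  inv_mem' := by
    rintro a ⟨ha, k, hk, hka⟩
    refine ⟨S.inv_mem ha, k⁻¹, K.inv_mem hk, fun x => ?_⟩
    have h1 := hka (k⁻¹ x)
    rw [MulAut.apply_inv_self] at h1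
    rw [h1]
    group

theorem mem_preim {S Q : Subgroup Ω} {K : Subgroup (MulAut Q)} {y : Ω} :
    y ∈ preim S Q K ↔ y ∈ S ∧ ∃ k ∈ K, ∀ x : Q, ((k x : Q) : Ω) = y * x * y⁻¹ := Iff.rfl

theorem preim_le (S Q : Subgroup Ω) (K : Subgroup (MulAut Q)) : preim S Q K ≤ S := fun _ h => h.1

theorem preim_le_normalizer (S Q : Subgroup Ω) (K : Subgroup (MulAut Q)) :
    preim S Q K ≤ normalizer (Q : Set Ω) := by
  rintro y ⟨-, k, -, hk⟩
  exact mem_normalizer_of_aut hk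

theorem le_preim {Q : Subgroup Ω} (hQ : Q ≤ S) {K : Subgroup (MulAut Q)}
    (hK : ∀ x : Q, MulAut.conj x ∈ K) : Q ≤ preim S Q K := by
  intro y hy
  exact ⟨hQ hy, MulAut.conj ⟨y, hy⟩, hK _, fun x => rfl⟩

/-- Extension of automorphisms over `preim S Q K`. -/
theorem exists_extension_preim [Finite S] {F : FusionSystem S} {Q : Subgroup Ω}
    (hQ : F.IsReceptive Q) {K : Subgroup (MulAut Q)} (hK : K ≤ autInducedBy S Q)
    (hQK : Q ≤ preim S Q K) {α : MulAut Q} (hα : α ∈ F.autGroup Q)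
    (hαK : ∀ k ∈ K, α * k * α⁻¹ ∈ K) :
    ∃ ψ ∈ F.Hom (preim S Q K), (∀ (x : Ω) (hx : x ∈ Q), ψ ⟨x, hQK hx⟩ = (α ⟨x, hx⟩ : Q)) ∧
      ∀ y : preim S Q K, ψ y ∈ preim S Q K := by
  have hQS := hQ.1
  have hfin : Finite Q := finite_of_le hQS
  have hα' := (mem_autGroup_iff F hQS α).1 hα
  obtain ⟨ψ, hψ, hψe⟩ := hQ.2 Q _ hα' (range_eq_of_mapsTo hα' (fun x => (α x).2))
  have hle : preim S Q K ≤ extender S Q (Q.subtype.comp α.toMonoidHom) := by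
    intro g hg
    rw [mem_extender_iff]
    refine ⟨hg.1, preim_le_normalizer S Q K hg, ?_⟩
    obtain ⟨-, k, hk, hkg⟩ := hg
    obtain ⟨h, hh, hhe⟩ := (mem_autInducedBy_iff S Q _).1 (hK (hαK k hk))
    refine ⟨h, hh, fun x hx => ?_⟩
    have h1 := hhe (α x)
    rw [MulAut.mul_apply, MulAut.mul_apply, MulAut.inv_apply_self] at h1
    show ((α ⟨g * x * g⁻¹, hx⟩ : Q) : Ω) = h * ((α x : Q) : Ω) * h⁻¹
    rw [← h1]
    have h3 : (⟨g * x * g⁻¹, hx⟩ : Q) = k x := Subtype.ext (hkg x).symm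
    rw [h3]
  refine ⟨_, restrict_mem hψ hle, fun x hx => hψe x hx _, fun y => ?_⟩
  have hψQ : ∀ (x : Ω) (hx : x ∈ Q) (hx' : x ∈ extender S Q (Q.subtype.comp α.toMonoidHom)),
      ψ ⟨x, hx'⟩ = (α ⟨x, hx⟩ : Q) := fun x hx hx' => hψe x hx hx'
  obtain ⟨hyS, k, hk, hky⟩ := y.2
  refine ⟨hom_apply_mem hψ _, α * k * α⁻¹, hαK k hk, fun x => ?_⟩
  have h1 : (((α * k * α⁻¹) x : Q) : Ω) = ψ ⟨((k (α⁻¹ x) : Q) : Ω), hle (hQK (k (α⁻¹ x)).2)⟩ := by
    rw [hψQ _ (k (α⁻¹ x)).2]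
    rfl
  have h2 : (⟨((k (α⁻¹ x) : Q) : Ω), hle (hQK (k (α⁻¹ x)).2)⟩ :
      extender S Q (Q.subtype.comp α.toMonoidHom)) =
      ⟨(y : Ω), hle y.2⟩ * ⟨((α⁻¹ x : Q) : Ω), hle (hQK (α⁻¹ x).2)⟩ * ⟨(y : Ω), hle y.2⟩⁻¹ :=
    Subtype.ext (hky _)
  rw [h1, h2, map_mul, map_mul, map_inv, hψQ _ (α⁻¹ x).2]
  have h3 : α (⟨((α⁻¹ x : Q) : Ω), (α⁻¹ x).2⟩ : Q) = x := MulAut.apply_inv_self _ _ _
  rw [h3]
  rfl

/-- A normal `p`-subgroup `M` of `Aut_F(Q)` containing the inner automorphisms. -/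
theorem exists_extension_of_normal {p : ℕ} [Fact p.Prime] [Finite S] (hS : IsPGroup p S)
    {F : FusionSystem S} (hF : F.IsSaturated p) {Q : Subgroup Ω} (hQ : F.IsFullyNormalized Q)
    {M : Subgroup (F.autGroup Q)} (hM : M.Normal) (hMp : IsPGroup p M)
    (hIM : ∀ x : Q, ∃ g ∈ M, (g : MulAut Q) = MulAut.conj x) :
    M.map (F.autGroup Q).subtype ≤ autInducedBy S Q ∧
    ∃ hQT : Q ≤ preim S Q (M.map (F.autGroup Q).subtype), ∀ α ∈ F.autGroup Q,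
      ∃ ψ ∈ F.Hom (preim S Q (M.map (F.autGroup Q).subtype)),
        (∀ (x : Ω) (hx : x ∈ Q), ψ ⟨x, hQT hx⟩ = (α ⟨x, hx⟩ : Q)) ∧
        ∀ y : preim S Q (M.map (F.autGroup Q).subtype),
          ψ y ∈ preim S Q (M.map (F.autGroup Q).subtype) := by
  have hfin : Finite Q := finite_of_le hQ.1
  obtain ⟨-, R, hR⟩ := isFullyAutomized_of_isFullyNormalized hS hF hQ
  have h1 : M ≤ R := normal_le_sylow hMp hM R
  have h2 : M.map (F.autGroup Q).subtype ≤ autInducedBy S Q := by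
    rintro _ ⟨g, hg, rfl⟩
    have := h1 hg
    rw [hR] at this
    exact this
  have h3 : Q ≤ preim S Q (M.map (F.autGroup Q).subtype) := by
    refine le_preim hQ.1 fun x => ?_
    obtain ⟨g, hg, hgx⟩ := hIM x
    exact ⟨g, hg, hgx⟩
  refine ⟨h2, h3, fun α hα => ?_⟩
  refine exists_extension_preim (isReceptive_of_isFullyNormalized hS hF hQ) h2 h3 hα ?_
  rintro _ ⟨g, hg, rfl⟩
  exact ⟨⟨α, hα⟩ * g * ⟨α, hα⟩⁻¹, hM.conj_mem g hg _, rfl⟩

/-- inner automorphisms of a subgroup of `S` belong to the system -/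
theorem conj_mem_autGroup (F : FusionSystem S) {Q : Subgroup Ω} (hQ : Q ≤ S) (x : Q) :
    MulAut.conj x ∈ F.autGroup Q :=
  autInducedBy_le_autGroup F hQ ((mem_autInducedBy_iff S Q _).2 ⟨x, hQ x.2, fun _ => rfl⟩)

/-- the subgroup of inner automorphisms in `Aut_F(Q)` -/
def innIn (F : FusionSystem S) (Q : Subgroup Ω) : Subgroup (F.autGroup Q) :=
  (MulAut.conj (G := Q)).range.subgroupOf (F.autGroup Q)

theorem mem_innIn {F : FusionSystem S} {Q : Subgroup Ω} {g : F.autGroup Q} :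
    g ∈ innIn F Q ↔ ∃ x : Q, (g : MulAut Q) = MulAut.conj x := by
  rw [innIn, mem_subgroupOf]
  constructor
  · rintro ⟨x, hx⟩
    exact ⟨x, hx.symm⟩
  · rintro ⟨x, hx⟩
    exact ⟨x, hx.symm⟩

theorem innIn_normal (F : FusionSystem S) (Q : Subgroup Ω) : (innIn F Q).Normal := by
  refine ⟨fun g hg a => ?_⟩
  rw [mem_innIn] at hg ⊢
  obtain ⟨x, hx⟩ := hg
  refine ⟨(a : MulAut Q) x, ?_⟩
  push_cast
  rw [hx]
  apply MulEquiv.ext
  intro y
  simp [MulAut.mul_apply, MulAut.conj_apply]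

theorem innIn_isPGroup {p : ℕ} {F : FusionSystem S} {Q : Subgroup Ω} (hQ : IsPGroup p Q) :
    IsPGroup p (innIn F Q) := by
  have h1 : IsPGroup p (MulAut.conj (G := Q)).range := by
    rintro ⟨_, x, rfl⟩
    obtain ⟨k, hk⟩ := hQ x
    refine ⟨k, Subtype.ext ?_⟩
    show (MulAut.conj x) ^ p ^ k = 1
    rw [← map_pow, hk, map_one]
  exact h1.comap_subtype

/-- `O_p(Aut_F(Q)) = Inn(Q)`, in elementary form -/
def NoNormal (p : ℕ) (F : FusionSystem S) (Q : Subgroup Ω) : Prop :=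
  ∀ N : Subgroup (F.autGroup Q), N.Normal → IsPGroup p N → ∀ g ∈ N, ∃ x : Q,
    (g : MulAut Q) = MulAut.conj x

/-- If `O_p(Aut_F(Q)) > Inn(Q)`, every automorphism extends to a larger subgroup. -/
theorem exists_large_extension {p : ℕ} [Fact p.Prime] [Finite S] (hS : IsPGroup p S)
    {F : FusionSystem S} (hF : F.IsSaturated p) {Q : Subgroup Ω} (hQ : F.IsFullyNormalized Q)
    (hno : ¬ NoNormal p F Q) :
    ∃ T : Subgroup Ω, T ≤ S ∧ T ≤ normalizer (Q : Set Ω) ∧ Nat.card Q < Nat.card T ∧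
      ∃ hQT : Q ≤ T, ∀ α ∈ F.autGroup Q,
      ∃ ψ ∈ F.Hom T, (∀ (x : Ω) (hx : x ∈ Q), ψ ⟨x, hQT hx⟩ = (α ⟨x, hx⟩ : Q)) ∧
        ∀ y : T, ψ y ∈ T := by
  unfold NoNormal at hno
  push Not at hno
  obtain ⟨N, hN, hNp, g, hg, hgx⟩ := hno
  have hfin : Finite Q := finite_of_le hQ.1
  have hIn := innIn_normal F Q
  have hIp : IsPGroup p (innIn F Q) := innIn_isPGroup (hS.to_le hQ.1)
  have hMn : (N ⊔ innIn F Q).Normal := sup_normal N (innIn F Q)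
  have hMp : IsPGroup p (N ⊔ innIn F Q : Subgroup (F.autGroup Q)) :=
    hNp.to_sup_of_normal_right hIp
  obtain ⟨h1, hQT, h2⟩ := exists_extension_of_normal hS hF hQ hMn hMp (fun x =>
    ⟨⟨MulAut.conj x, conj_mem_autGroup F hQ.1 x⟩,
      (le_sup_right : innIn F Q ≤ _) (mem_innIn.2 ⟨x, rfl⟩), rfl⟩)
  refine ⟨_, preim_le _ _ _, preim_le_normalizer _ _ _, ?_, hQT, h2⟩
  have hfinT : Finite (preim S Q ((N ⊔ innIn F Q).map (F.autGroup Q).subtype)) :=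
    finite_of_le (preim_le _ _ _)
  have hgM : (g : MulAut Q) ∈ (N ⊔ innIn F Q).map (F.autGroup Q).subtype :=
    ⟨g, (le_sup_left : N ≤ _) hg, rfl⟩
  obtain ⟨y, hyS, hy⟩ := (mem_autInducedBy_iff S Q _).1 (h1 hgM)
  have hyT : y ∈ preim S Q ((N ⊔ innIn F Q).map (F.autGroup Q).subtype) := ⟨hyS, g, hgM, hy⟩
  have hyQ : y ∉ Q := by
    intro hyQ
    apply hgx ⟨y, hyQ⟩
    apply MulEquiv.ext
    intro x
    exact Subtype.ext (hy x)
  have hlt : Q < preim S Q ((N ⊔ innIn F Q).map (F.autGroup Q).subtype) :=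
    lt_of_le_of_ne hQT fun h => hyQ (by rw [h]; exact hyT)
  exact Set.ncard_lt_ncard hlt (Set.toFinite _)

/-- the system generated by a group of automorphisms of `S` -/
def autSystem (A : Subgroup (MulAut S)) (hA : ∀ x : S, MulAut.conj x ∈ A) : FusionSystem S where
  Hom P := {φ | ∃ hP : P ≤ S, ∃ α ∈ A, ∀ x : P, φ x = (α ⟨x, hP x.2⟩ : S)}
  le_of_mem := by
    rintro P φ ⟨hP, α, -, h⟩
    exact ⟨hP, fun x => (h x) ▸ (α _).2⟩
  injective_of_mem := by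
    rintro P φ ⟨hP, α, -, h⟩ x y hxy
    rw [h, h] at hxy
    have h1 := α.injective (Subtype.ext hxy)
    have h2 : (x : Ω) = y := congrArg (fun t : S => (t : Ω)) h1
    exact Subtype.ext h2
  conj_mem := by
    intro P g hP hg
    exact ⟨hP, MulAut.conj ⟨g, hg⟩, hA _, fun x => rfl⟩
  comp_mem := by
    rintro P Q φ ψ ⟨hP, α, hα, h⟩ ⟨hQ, β, hβ, h'⟩ hh
    refine ⟨hP, β * α, A.mul_mem hβ hα, fun x => ?_⟩
    show ψ ⟨φ x, hh x⟩ = _
    rw [h', MulAut.mul_apply]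
    have h1 : (⟨φ x, hQ (hh x)⟩ : S) = α ⟨x, hP x.2⟩ := Subtype.ext (h x)
    exact congrArg (fun t : S => ((β t : S) : Ω)) h1
  inv_mem := by
    rintro P φ ⟨hP, α, hα, h⟩
    have hr : φ.range ≤ S := by
      rintro _ ⟨x, rfl⟩
      rw [h]
      exact (α _).2
    refine ⟨S.subtype.comp ((α⁻¹ : MulAut S).toMonoidHom.comp (inclusion hr)),
      ⟨hr, α⁻¹, A.inv_mem hα, fun y => rfl⟩, fun x => ?_⟩
    show ((α⁻¹ ⟨φ x, _⟩ : S) : Ω) = x
    have h1 : (⟨φ x, hr ⟨x, rfl⟩⟩ : S) = α ⟨x, hP x.2⟩ := Subtype.ext (h x)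
    have h2 : α⁻¹ (⟨φ x, hr ⟨x, rfl⟩⟩ : S) = ⟨x, hP x.2⟩ := by
      rw [h1, MulAut.inv_apply_self]
    exact congrArg Subtype.val h2

/-- **Resistance criterion.** -/
theorem exists_aut_of_no_bad {p : ℕ} [Fact p.Prime] [Finite S] (hS : IsPGroup p S)
    {F : FusionSystem S} (hF : F.IsSaturated p)
    (h : ∀ Q : Subgroup Ω, F.IsFullyNormalized Q → F.IsCentric Q → Q ≠ S → ¬ NoNormal p F Q)
    {P : Subgroup Ω} {φ : P →* Ω} (hφ : φ ∈ F.Hom P) :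
    ∃ hP : P ≤ S, ∃ α ∈ F.autGroup S, ∀ x : P, φ x = (α ⟨x, hP x.2⟩ : S) := by
  refine le_of_centric hS hF (autSystem (F.autGroup S) (conj_mem_autGroup F le_rfl)) ?_ P hφ
  intro Q hQ hc hbig α hα
  rw [mem_autGroup_iff _ hQ.1]
  by_cases hQS : Q = S
  · subst hQS
    exact ⟨le_rfl, α, hα, fun x => rfl⟩
  · obtain ⟨T, hTS, -, hcard, hQT, hext⟩ := exists_large_extension hS hF hQ (h Q hQ hc hQS)
    obtain ⟨ψ, hψ, hψe, -⟩ := hext α hα
    exact mem_of_agree (hbig T hcard hψ) hQT (fun x hx => (hψe x hx).symm)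

theorem isNormal_of_no_bad {p : ℕ} [Fact p.Prime] [Finite S] (hS : IsPGroup p S)
    {F : FusionSystem S} (hF : F.IsSaturated p)
    (h : ∀ Q : Subgroup Ω, F.IsFullyNormalized Q → F.IsCentric Q → Q ≠ S → ¬ NoNormal p F Q) :
    F.IsNormal S := by
  refine ⟨le_rfl, fun P φ hφ => ?_⟩
  obtain ⟨hP, α, hα, hαφ⟩ := exists_aut_of_no_bad hS hF h hφ
  have hsup : P ⊔ S = S := sup_eq_right.2 hP
  have h1 := (mem_autGroup_iff F le_rfl α).1 hα
  have hle : P ⊔ S ≤ S := hsup.le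
  refine ⟨(S.subtype.comp α.toMonoidHom).comp (inclusion hle), restrict_mem h1 hle, fun x => ?_, ?_⟩
  · exact (hαφ x).symm
  · ext y
    constructor
    · rintro ⟨x, -, rfl⟩
      exact (α _).2
    · intro hy
      have h2 : (α (α⁻¹ ⟨y, hy⟩) : S) = ⟨y, hy⟩ := MulAut.apply_inv_self _ _ _
      refine ⟨⟨(α⁻¹ ⟨y, hy⟩ : S), (le_sup_right : S ≤ P ⊔ S) (α⁻¹ ⟨y, hy⟩ : S).2⟩,
        (α⁻¹ ⟨y, hy⟩ : S).2, ?_⟩
      exact congrArg Subtype.val h2

end Cfsg.Agent.H791
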