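import Cfsg.Agent.H791.RankTwo
import Cfsg.Agent.Lib.NormalAbelian

/-!
# An eigenvalue argument in `p`-groups of rank at most 2 (helper791)
-/

set_option autoImplicit false

namespace Cfsg.Agent.H791

open Subgroup
open scoped commutatorElement

variable {p : ℕ} [hp : Fact p.Prime] {N : Type*} [Group N]

theorem exists_central_mod [Finite N] (hN : IsPGroup p N) {E Z : Subgroup N} (hE : E.Normal)
    (hZ : Z.Normal) (hZE : ¬ E ≤ Z) : ∃ w ∈ E, w ∉ Z ∧ ∀ g : N, ⁅g, w⁆ ∈ Z := by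
  have h1 : IsPGroup p (N ⧸ Z) := hN.to_quotient Z
  have h2 : Group.IsNilpotent (N ⧸ Z) := h1.isNilpotent
  have h3 : (E.map (QuotientGroup.mk' Z)).Normal := hE.map _ (QuotientGroup.mk'_surjective Z)
  have h4 : E.map (QuotientGroup.mk' Z) ≠ ⊥ := by
    intro h
    apply hZE
    rw [Subgroup.map_eq_bot_iff, QuotientGroup.ker_mk'] at h
    exact h
  have h5 := Cfsg.Agent.Lib.NormalAbelian.normal_inf_center_ne_bot (E.map (QuotientGroup.mk' Z)) h4
  obtain ⟨x, hx, hx1⟩ : ∃ x, x ∈ E.map (QuotientGroup.mk' Z) ⊓ Subgroup.center (N ⧸ Z) ∧ x ≠ 1 := by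
    by_contra hcon
    push Not at hcon
    exact h5 ((Subgroup.eq_bot_iff_forall _).2 hcon)
  obtain ⟨⟨w, hw, rfl⟩, hc⟩ := hx
  refine ⟨w, hw, fun h => hx1 ((QuotientGroup.eq_one_iff w).2 h), fun g => ?_⟩
  rw [← QuotientGroup.eq_one_iff]
  have h6 := Subgroup.mem_center_iff.1 hc (QuotientGroup.mk' Z g)
  show QuotientGroup.mk' Z ⁅g, w⁆ = 1
  rw [map_commutatorElement]
  exact commutatorElement_eq_one_iff_mul_comm.2 h6

/-- the elements of `E` which are central modulo `Z` -/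
def cmod (E Z : Subgroup N) (hZ : Z.Normal) : Subgroup N where
  carrier := {x | x ∈ E ∧ ∀ g : N, ⁅g, x⁆ ∈ Z}
  one_mem' := ⟨E.one_mem, fun g => by rw [commutatorElement_one_right]; exact Z.one_mem⟩
  mul_mem' := by
    rintro x y ⟨hx, hx'⟩ ⟨hy, hy'⟩
    refine ⟨E.mul_mem hx hy, fun g => ?_⟩
    have h : ⁅g, x * y⁆ = ⁅g, x⁆ * (x * ⁅g, y⁆ * x⁻¹) := by
      simp only [commutatorElement_def]
      group
    rw [h]
    exact Z.mul_mem (hx' g) (hZ.conj_mem _ (hy' g) x)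
  inv_mem' := by
    rintro x ⟨hx, hx'⟩
    refine ⟨E.inv_mem hx, fun g => ?_⟩
    have h : ⁅g, x⁻¹⁆ = x⁻¹ * ⁅g, x⁆⁻¹ * x⁻¹⁻¹ := by
      simp only [commutatorElement_def]
      group
    rw [h]
    exact hZ.conj_mem _ (Z.inv_mem (hx' g)) _

theorem mem_cmod {E Z : Subgroup N} {hZ : Z.Normal} {x : N} :
    x ∈ cmod E Z hZ ↔ x ∈ E ∧ ∀ g : N, ⁅g, x⁆ ∈ Z := Iff.rfl

theorem cmod_normal {E Z : Subgroup N} (hZ : Z.Normal) (hE : E.Normal) : (cmod E Z hZ).Normal := by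
  refine ⟨fun x hx y => ⟨hE.conj_mem _ hx.1 y, fun g => ?_⟩⟩
  have h : ⁅g, y * x * y⁻¹⁆ = y * ⁅y⁻¹ * g * y, x⁆ * y⁻¹ := by
    simp only [commutatorElement_def]
    group
  rw [h]
  exact hZ.conj_mem _ (hx.2 _) y

/-- a subgroup strictly above one of index `p` -/
theorem eq_of_lt_of_card [Finite N] (hN : IsPGroup p N) {A B C : Subgroup N} (h1 : A < B) (h2 : B ≤ C)
    {k : ℕ} (hA : Nat.card A = p ^ k) (hC : Nat.card C = p ^ (k + 1)) : B = C := by
  refine eq_of_le_of_card_ge h2 ?_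
  obtain ⟨l, hl⟩ := IsPGroup.iff_card.1 (hN.to_subgroup B)
  have h4 : Nat.card A < Nat.card B := Set.ncard_lt_ncard h1 (Set.toFinite _)
  rw [hl, hA] at h4
  rw [hC, hl]
  exact Nat.pow_le_pow_right hp.out.pos ((Nat.pow_lt_pow_iff_right hp.out.one_lt).1 h4)

/-- in an abelian `p`-group `C` (given by central elements) with a unique subgroup of order `p` -/
theorem mem_zpowers_of_orderOf [Finite N] {C Z : Subgroup N} (hCcomm : ∀ x ∈ C, ∀ y ∈ C, Commute x y)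
    (hN : IsPGroup p N) (hZ : Nat.card Z = p) (hΩ : ∀ c ∈ C, c ^ p = 1 → c ∈ Z) :
    ∀ (s : ℕ) (y c : N), y ∈ C → c ∈ C → orderOf y = p ^ s → orderOf y ∣ orderOf c →
      y ∈ zpowers c := by
  intro s
  induction s with
  | zero =>
    intro y c _ _ hy _
    rw [pow_zero, orderOf_eq_one_iff] at hy
    rw [hy]
    exact one_mem _
  | succ s ih =>
    intro y c hyC hcC hy hyc
    obtain ⟨r, hr⟩ := IsPGroup.iff_orderOf.1 hN c
    have hsr : s + 1 ≤ r := by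
      rw [hy, hr] at hyc
      exact (Nat.pow_dvd_pow_iff_le_right hp.out.one_lt).1 hyc
    -- the subgroup of order `p` in `⟨c⟩`
    obtain ⟨r', rfl⟩ : ∃ r', r = r' + 1 := ⟨r - 1, by omega⟩
    have hc1 : (c ^ p ^ r') ^ p = 1 := by rw [← pow_mul, ← pow_succ, ← hr, pow_orderOf_eq_one]
    have hc2 : c ^ p ^ r' ≠ 1 := by
      intro h
      have h3 := Nat.le_of_dvd (pow_pos hp.out.pos _) (hr ▸ orderOf_dvd_of_pow_eq_one h)
      exact absurd h3 (not_le.2 (Nat.pow_lt_pow_right hp.out.one_lt (Nat.lt_succ_self _)))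
    have hcZ : c ^ p ^ r' ∈ Z := hΩ _ (C.pow_mem hcC _) hc1
    -- induction for `y ^ p`
    have hyp : orderOf (y ^ p) = p ^ s := by
      rw [orderOf_pow_of_dvd hp.out.ne_zero (by rw [hy, pow_succ]; exact dvd_mul_left _ _), hy,
        pow_succ, Nat.mul_div_cancel _ hp.out.pos]
    have h1 : y ^ p ∈ zpowers c := by
      refine ih (y ^ p) c (C.pow_mem hyC _) hcC hyp ?_
      rw [hyp, hr]
      exact pow_dvd_pow _ (by omega)
    obtain ⟨i, hi⟩ := h1
    have hi' : c ^ i = y ^ p := hi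
    -- `p ∣ i`
    have hpi : (p : ℤ) ∣ i := by
      have h2 : c ^ (i * (p : ℤ) ^ s) = 1 := by
        rw [zpow_mul, hi']
        have : ((p : ℤ) ^ s) = ((p ^ s : ℕ) : ℤ) := by push_cast; rfl
        rw [this, zpow_natCast, ← hyp, pow_orderOf_eq_one]
      have h3 := orderOf_dvd_iff_zpow_eq_one.2 h2
      rw [hr] at h3
      have h4 : (p : ℤ) * (p : ℤ) ^ s ∣ i * (p : ℤ) ^ s := by
        refine dvd_trans ?_ h3
        push_cast
        rw [← pow_succ']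
        exact pow_dvd_pow _ (by omega)
      exact (mul_dvd_mul_iff_right (pow_ne_zero _ (by exact_mod_cast hp.out.ne_zero))).1 h4
    obtain ⟨i', rfl⟩ := hpi
    have h5 : (y * (c ^ i')⁻¹) ^ p = 1 := by
      have h6 : Commute y (c ^ i')⁻¹ := (hCcomm y hyC _ (C.zpow_mem hcC i')).inv_right
      rw [h6.mul_pow, inv_pow, ← zpow_natCast (c ^ i'), ← zpow_mul, mul_comm i', hi', mul_inv_cancel]
    have h7 : y * (c ^ i')⁻¹ ∈ Z := hΩ _ (C.mul_mem hyC (C.inv_mem (C.zpow_mem hcC i'))) h5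
    obtain ⟨j, hj⟩ := exists_zpow_of_card_prime hZ hcZ hc2 h7
    have h8 : y = (c ^ p ^ r') ^ j * c ^ i' := by rw [← hj, inv_mul_cancel_right]
    rw [h8]
    exact mul_mem (zpow_mem (pow_mem (mem_zpowers c) _) _) (zpow_mem (mem_zpowers c) _)

theorem lemma_b [Finite N] (hN : IsPGroup p N)
    (hrk : ∀ E : Subgroup N, IsElementaryAbelian p E → Nat.card E ≤ p ^ 2) {E : Subgroup N}
    (hEn : E.Normal) (hexp : ∀ x ∈ E, x ^ p = 1) (hEc : Nat.card E = p ^ 3)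
    (hZc : Nat.card (zOf E) = p) (hcl : ∀ x ∈ E, ∀ y ∈ E, ⁅x, y⁆ ∈ zOf E)
    (hC : ∀ c, (∀ x ∈ E, c * x = x * c) → ∀ y : N, c * y = y * c) (α : MulAut N)
    (hαE : ∀ x ∈ E, α x ∈ E) {e : N} (he : e ∈ E) {g : N} (heg : ⁅g, e⁆ ∉ zOf E) {b : ℤ}
    (hb : ∀ g : N, ⁅g, (e ^ b)⁻¹ * α e⁆ ∈ zOf E) : b * b ≡ 1 [ZMOD p] := by
  set Z := zOf E with hZdef
  -- `Z` is central
  have hZcen : ∀ z ∈ Z, ∀ y : N, Commute z y := fun z hz y =>
    hC z (fun x hx => ((mem_zOf.1 hz).2 x hx).symm) y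
  have hZn : Z.Normal := by
    refine ⟨fun z hz y => ?_⟩
    rw [← (hZcen z hz y).eq, mul_inv_cancel_right]
    exact hz
  have hZE : Z ≤ E := zOf_le E
  have hEZ : ¬ E ≤ Z := by
    intro h
    have h1 := Nat.card_mono (Set.toFinite (Z : Set N)) h
    have h2 : Nat.card E ≤ Nat.card Z := h1
    rw [hEc, hZc] at h2
    have h3 : p ^ 3 ≤ p ^ 1 := by rwa [pow_one]
    have h4 := (Nat.pow_le_pow_iff_right hp.out.one_lt).1 h3
    omega
  -- the subgroup `W`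
  set W := cmod E Z hZn with hW
  have hWn : W.Normal := cmod_normal hZn hEn
  have hWE : W ≤ E := fun x hx => hx.1
  have heW : e ∉ W := fun h => heg (h.2 g)
  have hEW : ¬ E ≤ W := fun h => heW (h he)
  have hZW : Z ≤ W := by
    intro z hz
    refine ⟨hZE hz, fun g => ?_⟩
    rw [commutatorElement_eq_one_iff_mul_comm.2 (hZcen z hz g).symm.eq]
    exact Z.one_mem
  obtain ⟨w₀, hw₀E, hw₀Z, hw₀⟩ := exists_central_mod hN hEn hZn hEZ
  have hw₀W : w₀ ∈ W := ⟨hw₀E, hw₀⟩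
  have hZWlt : Z < W := lt_of_le_of_ne hZW fun h => hw₀Z (h ▸ hw₀W)
  have hWElt : W < E := lt_of_le_of_ne hWE fun h => hEW h.ge
  have hWc : Nat.card W = p ^ 2 := by
    obtain ⟨l, hl⟩ := IsPGroup.iff_card.1 (hN.to_subgroup W)
    have h1 : Nat.card Z < Nat.card W := Set.ncard_lt_ncard hZWlt (Set.toFinite _)
    have h2 : Nat.card W < Nat.card E := Set.ncard_lt_ncard hWElt (Set.toFinite _)
    rw [hl, hZc] at h1
    rw [hl, hEc] at h2
    have h3 : 1 < l := by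
      rw [← Nat.pow_lt_pow_iff_right hp.out.one_lt]
      rwa [pow_one]
    have h4 : l < 3 := (Nat.pow_lt_pow_iff_right hp.out.one_lt).1 h2
    have h5 : l = 2 := by omega
    rw [hl, h5]
  have hWcomm : ∀ x ∈ W, ∀ y ∈ W, Commute x y := by
    have := IsPGroup.isMulCommutative_of_card_eq_prime_sq hWc
    intro x hx y hy
    exact congrArg Subtype.val (mul_comm' (⟨x, hx⟩ : W) ⟨y, hy⟩)
  have hWel : IsElementaryAbelian p W :=
    ⟨⟨⟨fun x y => Subtype.ext (hWcomm x x.2 y y.2).eq⟩⟩, fun x hx => hexp x (hWE hx)⟩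
  -- `N` acts trivially on `E / W`
  have hEW' : ∀ y ∈ E, ∀ g : N, ⁅g, y⁆ ∈ W := by
    obtain ⟨w', hw'E, hw'W, hw'⟩ := exists_central_mod hN hEn hWn hEW
    have h1 : W < cmod E W hWn := by
      refine lt_of_le_of_ne (fun x hx => ⟨hWE hx, fun g => ?_⟩) fun h => hw'W ?_
      · rw [commutatorElement_def]
        exact W.mul_mem (hWn.conj_mem x hx g) (W.inv_mem hx)
      · rw [h]
        exact ⟨hw'E, hw'⟩
    have h2 := eq_of_lt_of_card hN h1 (C := E) (fun x hx => hx.1) hWc hEc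
    intro y hy
    rw [← h2] at hy
    exact hy.2
  -- the centralizer in `E` of a subgroup
  have hcentE : ∀ t : N, (∀ x ∈ W, Commute t x) → Commute t e → ∀ x ∈ E, t * x = x * t := by
    intro t h1 h2
    have h3 : W < E ⊓ centralizer {t} := by
      refine lt_of_le_of_ne (le_inf hWE fun x hx => ?_) fun h => heW ?_
      · exact mem_centralizer_singleton_iff.2 (h1 x hx).symm.eq
      · rw [h]
        exact ⟨he, mem_centralizer_singleton_iff.2 h2.symm.eq⟩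
    have h4 := eq_of_lt_of_card hN h3 inf_le_left hWc hEc
    intro x hx
    rw [← h4] at hx
    exact (mem_centralizer_singleton_iff.1 hx.2).symm
  have hwe : ∀ w ∈ W, w ∉ Z → ⁅w, e⁆ ≠ 1 := by
    intro w hw hwZ h
    apply hwZ
    rw [hZdef, mem_zOf]
    refine ⟨hWE hw, fun y hy => (hcentE w (fun x hx => hWcomm w hw x hx) ?_ y hy).symm⟩
    exact commutatorElement_eq_one_iff_mul_comm.1 h
  -- an element centralizing `W`, not acting as an inner automorphism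
  obtain ⟨x, hxW, hxe⟩ : ∃ x : N, (∀ y ∈ W, Commute x y) ∧ ⁅x, e⁆ ∉ Z := by
    have h1 : ⁅w₀, e⁆ ∈ Z := hcl w₀ hw₀E e he
    obtain ⟨k, hk⟩ := exists_zpow_of_card_prime hZc h1 (hwe w₀ hw₀W hw₀Z) (hw₀ g)
    have h2 : ⁅e, w₀⁆ ∈ Z := hcl e he w₀ hw₀E
    have h3 : ⁅e ^ k, w₀⁆ = ⁅e, w₀⁆ ^ k := comm_zpow_left (hZcen _ h2 e) k
    have h4 : ⁅e ^ k * g, w₀⁆ = 1 := by
      have h5 : ⁅e ^ k * g, w₀⁆ = e ^ k * ⁅g, w₀⁆ * (e ^ k)⁻¹ * ⁅e ^ k, w₀⁆ := by
        simp only [commutatorElement_def]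
        group
      rw [h5, ← (hZcen _ (hw₀ g) (e ^ k)).eq, mul_inv_cancel_right, hk, h3,
        ← commutatorElement_inv w₀ e, inv_zpow, mul_inv_cancel]
    refine ⟨e ^ k * g, ?_, ?_⟩
    · have h5 : Commute (e ^ k * g) w₀ := commutatorElement_eq_one_iff_mul_comm.1 h4
      have h6 : Z < W ⊓ centralizer {e ^ k * g} := by
        refine lt_of_le_of_ne (le_inf hZW fun z hz => ?_) fun h => hw₀Z ?_
        · exact mem_centralizer_singleton_iff.2 (hZcen z hz _).eq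
        · rw [h]
          exact ⟨hw₀W, mem_centralizer_singleton_iff.2 h5.symm.eq⟩
      have h7 := eq_of_lt_of_card hN h6 inf_le_left (k := 1) (by rw [hZc, pow_one]) hWc
      intro y hy
      rw [← h7] at hy
      exact (mem_centralizer_singleton_iff.1 hy.2).symm
    · intro h5
      apply heg
      have h6 : ⁅e ^ k * g, e⁆ = e ^ k * ⁅g, e⁆ * (e ^ k)⁻¹ := by
        have h7 : e ^ k * e * (e ^ k)⁻¹ = e := by
          rw [(Commute.refl e).zpow_left k |>.eq, mul_inv_cancel_right]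
        calc ⁅e ^ k * g, e⁆ = e ^ k * ⁅g, e⁆ * (e ^ k)⁻¹ * (e ^ k * e * (e ^ k)⁻¹) * e⁻¹ := by
              simp only [commutatorElement_def]
              group
          _ = e ^ k * ⁅g, e⁆ * (e ^ k)⁻¹ := by rw [h7, mul_inv_cancel_right]
      rw [h6] at h5
      have h8 := hZn.conj_mem _ h5 (e ^ k)⁻¹
      have h9 : (e ^ k)⁻¹ * (e ^ k * ⁅g, e⁆ * (e ^ k)⁻¹) * (e ^ k)⁻¹⁻¹ = ⁅g, e⁆ := by group
      rwa [h9] at h8
  set w := ⁅x, e⁆ with hwdef
  have hwW : w ∈ W := hEW' e he x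
  have hwE : w ∈ E := hWE hwW
  set z := ⁅w, e⁆ with hzdef
  have hzZ : z ∈ Z := hcl w hwE e he
  have hz1 : z ≠ 1 := hwe w hwW hxe
  have hw1 : w ≠ 1 := fun h => hxe (h ▸ Z.one_mem)
  -- elements of `W`
  have hWgen : ∀ y ∈ W, ∃ i j : ℤ, y = w ^ i * z ^ j := by
    have h1 : Z < W ⊓ (zpowers w ⊔ Z) := by
      refine lt_of_le_of_ne (le_inf hZW le_sup_right) fun h => hxe ?_
      rw [h]
      exact ⟨hwW, (le_sup_left : zpowers w ≤ _) (mem_zpowers w)⟩
    have h2 := eq_of_lt_of_card hN h1 inf_le_left (k := 1) (by rw [hZc, pow_one]) hWc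
    intro y hy
    rw [← h2] at hy
    obtain ⟨_, ⟨i, rfl⟩, z', hz', rfl⟩ := mem_sup_of_normal_right.1 hy.2
    obtain ⟨j, rfl⟩ := exists_zpow_of_card_prime hZc hzZ hz1 hz'
    exact ⟨i, j, rfl⟩
  -- commutators with `e`
  have hcomm : ∀ s t : N, (∀ y ∈ W, Commute s y) → ⁅t, e⁆ ∈ W → ⁅s * t, e⁆ = ⁅t, e⁆ * ⁅s, e⁆ := by
    intro s t hs ht
    have h1 : ⁅s * t, e⁆ = s * ⁅t, e⁆ * s⁻¹ * ⁅s, e⁆ := by
      simp only [commutatorElement_def]
      group
    rw [h1, (hs _ ht).eq, mul_inv_cancel_right]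
  have hxz : ∀ i : ℤ, ⁅x ^ i, e⁆ = w ^ i := fun i => comm_zpow_left (hxW _ hwW).symm i
  have hwz : ∀ i : ℤ, ⁅w ^ i, e⁆ = z ^ i := fun i => comm_zpow_left (hZcen _ hzZ w) i
  -- `x ^ p` is central
  have hwp : w ^ p = 1 := hexp w hwE
  have hzp : z ^ p = 1 := hexp z (hZE hzZ)
  have hep : e ^ p = 1 := hexp e he
  have hxpcen : ∀ y : N, x ^ p * y = y * x ^ p := by
    refine hC _ (hcentE _ (fun y hy => (hxW y hy).pow_left p) ?_)
    refine commutatorElement_eq_one_iff_mul_comm.1 ?_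
    have h1 := hxz p
    rw [zpow_natCast, zpow_natCast, hwp] at h1
    exact h1
  set C : Subgroup N := Subgroup.center N with hCdef
  have hCcen : ∀ c ∈ C, ∀ y : N, Commute c y := fun c hc y => (Subgroup.mem_center_iff.1 hc y).symm
  have hxpC : x ^ p ∈ C := Subgroup.mem_center_iff.2 fun y => (hxpcen y).symm
  have hΩ : ∀ c ∈ C, c ^ p = 1 → c ∈ Z := by
    intro c hc hcp
    have h1 : c ∈ W := mem_of_comm hrk hWel hWc hcp fun a _ => (hCcen c hc a).symm.eq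
    rw [hZdef, mem_zOf]
    exact ⟨hWE h1, fun y _ => (hCcen c hc y).symm.eq⟩
  have hxpne : ∀ c ∈ C, x ^ p ≠ c ^ p := by
    intro c hc h
    have h1 : (x * c⁻¹) ^ p = 1 := by
      rw [(hCcen c hc x).symm.inv_right.mul_pow, inv_pow, h, mul_inv_cancel]
    have h2 : x * c⁻¹ ∈ W := by
      refine mem_of_comm hrk hWel hWc h1 fun a ha => ?_
      exact ((hxW a ha).mul_left (hCcen c hc a).inv_left).symm.eq
    have h3 : ⁅x * c⁻¹, e⁆ ∈ Z := hcl _ (hWE h2) e he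
    have h4 : ⁅x * c⁻¹, e⁆ = w := by
      have h5 : ⁅c⁻¹, e⁆ = 1 := commutatorElement_eq_one_iff_mul_comm.2 (hCcen c hc e).inv_left.eq
      rw [hcomm x c⁻¹ hxW (by rw [h5]; exact W.one_mem), h5, one_mul]
    rw [h4] at h3
    exact hxe h3
  -- `C` is generated by `x ^ p`
  have hCcomm : ∀ a ∈ C, ∀ b ∈ C, Commute a b := fun a ha b _ => hCcen a ha b
  have hCgen : ∀ c ∈ C, c ∈ zpowers (x ^ p) := by
    intro c hc
    obtain ⟨s, hs⟩ := IsPGroup.iff_orderOf.1 hN c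
    obtain ⟨r, hr⟩ := IsPGroup.iff_orderOf.1 hN (x ^ p)
    by_cases hsr : s ≤ r
    · refine mem_zpowers_of_orderOf hCcomm hN hZc hΩ s c (x ^ p) hc hxpC hs ?_
      rw [hs, hr]
      exact pow_dvd_pow _ hsr
    · exfalso
      have h1 : x ^ p ∈ zpowers c := by
        refine mem_zpowers_of_orderOf hCcomm hN hZc hΩ r (x ^ p) c hxpC hc hr ?_
        rw [hs, hr]
        exact pow_dvd_pow _ (by omega)
      obtain ⟨i, hi⟩ := h1
      have hi' : c ^ i = x ^ p := hi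
      have h2 : (p : ℤ) ∣ i := by
        have h3 : c ^ (i * (p : ℤ) ^ r) = 1 := by
          rw [zpow_mul, hi']
          have : ((p : ℤ) ^ r) = ((p ^ r : ℕ) : ℤ) := by push_cast; rfl
          rw [this, zpow_natCast, ← hr, pow_orderOf_eq_one]
        have h4 := orderOf_dvd_iff_zpow_eq_one.2 h3
        rw [hs] at h4
        have h5 : (p : ℤ) * (p : ℤ) ^ r ∣ i * (p : ℤ) ^ r := by
          refine dvd_trans ?_ h4
          push_cast
          rw [← pow_succ']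
          exact pow_dvd_pow _ (by omega)
        exact (mul_dvd_mul_iff_right (pow_ne_zero _ (by exact_mod_cast hp.out.ne_zero))).1 h5
      obtain ⟨i', rfl⟩ := h2
      apply hxpne (c ^ i') (C.zpow_mem hc i')
      rw [← hi', ← zpow_natCast (c ^ i'), ← zpow_mul, mul_comm i']
  -- `α` and the subgroups
  have hαE' : ∀ y ∈ E, α⁻¹ y ∈ E := by
    have h1 : E.map α.toMonoidHom ≤ E := by
      rintro _ ⟨y, hy, rfl⟩
      exact hαE y hy
    have h2 : Nat.card E ≤ Nat.card (E.map α.toMonoidHom) :=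
      (Nat.card_congr (E.equivMapOfInjective α.toMonoidHom α.injective).toEquiv).le
    have h3 := eq_of_le_of_card_ge h1 h2
    intro y hy
    rw [← h3] at hy
    obtain ⟨y', hy', rfl⟩ := hy
    have : α⁻¹ (α.toMonoidHom y') = y' := α.symm_apply_apply y'
    rw [this]
    exact hy'
  have hαZ : ∀ (β : MulAut N), (∀ y ∈ E, β y ∈ E) → (∀ y ∈ E, β⁻¹ y ∈ E) → ∀ z ∈ Z, β z ∈ Z := by
    intro β h1 h2 z hz
    rw [hZdef, mem_zOf] at hz ⊢
    refine ⟨h1 z hz.1, fun y hy => ?_⟩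
    have h3 := congrArg β (hz.2 (β⁻¹ y) (h2 y hy))
    rw [map_mul, map_mul, MulAut.apply_inv_self] at h3
    exact h3
  have hαZ1 : ∀ z ∈ Z, α z ∈ Z := hαZ α hαE hαE'
  have hαZ2 : ∀ z ∈ Z, α⁻¹ z ∈ Z := hαZ α⁻¹ hαE' (by rwa [inv_inv])
  have hαW : ∀ (β : MulAut N), (∀ y ∈ E, β y ∈ E) → (∀ y ∈ Z, β y ∈ Z) → ∀ y ∈ W, β y ∈ W := by
    intro β h1 h2 y hy
    refine ⟨h1 y hy.1, fun g => ?_⟩
    have h3 : ⁅g, β y⁆ = β ⁅β⁻¹ g, y⁆ := by
      rw [map_commutatorElement, MulAut.apply_inv_self]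
    rw [h3]
    exact h2 _ (hy.2 _)
  have hαW1 : ∀ y ∈ W, α y ∈ W := hαW α hαE hαZ1
  have hαW2 : ∀ y ∈ W, α⁻¹ y ∈ W := hαW α⁻¹ hαE' hαZ2
  have hαxW : ∀ y ∈ W, Commute (α x) y := by
    intro y hy
    have h1 := (hxW _ (hαW2 y hy)).map α.toMonoidHom
    have h2 : α.toMonoidHom (α⁻¹ y) = y := α.apply_symm_apply y
    rw [h2] at h1
    exact h1
  -- the element `α x`
  obtain ⟨κ, j, hκj⟩ := hWgen _ (hEW' e he (α x))
  obtain ⟨c, hc, hαx⟩ : ∃ c ∈ C, α x = x ^ κ * w ^ j * c := by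
    set t := x ^ κ * w ^ j with ht
    have htW : ∀ y ∈ W, Commute t y := fun y hy =>
      ((hxW y hy).zpow_left κ).mul_left ((hWcomm w hwW y hy).zpow_left j)
    have hte : ⁅t, e⁆ = ⁅α x, e⁆ := by
      rw [hκj, ht, hcomm _ _ (fun y hy => (hxW y hy).zpow_left κ)
        (by rw [hwz]; exact hZW (Z.zpow_mem hzZ j)), hwz, hxz]
      exact (hZcen _ (Z.zpow_mem hzZ j) _).eq
    refine ⟨t⁻¹ * α x, ?_, by rw [mul_inv_cancel_left]⟩
    refine Subgroup.mem_center_iff.2 fun y => (hC _ (hcentE _ (fun y hy => ?_) ?_) y).symm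
    · exact (htW y hy).inv_left.mul_left (hαxW y hy)
    · have h1 : t * e * t⁻¹ = α x * e * (α x)⁻¹ := by
        rw [commutatorElement_def, commutatorElement_def] at hte
        exact mul_right_cancel hte
      show t⁻¹ * α x * e = e * (t⁻¹ * α x)
      calc t⁻¹ * α x * e = t⁻¹ * (α x * e * (α x)⁻¹) * α x := by group
        _ = t⁻¹ * (t * e * t⁻¹) * α x := by rw [h1]
        _ = e * (t⁻¹ * α x) := by group
  -- the action on the centre
  have hαz : α z = z ^ κ := by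
    obtain ⟨l, hl⟩ := hCgen c hc
    have hl' : (x ^ p) ^ l = c := hl
    obtain ⟨m, hm⟩ := hCgen z (Subgroup.mem_center_iff.2 fun y => (hZcen z hzZ y).symm.eq)
    have hm' : (x ^ p) ^ m = z := hm
    have h1 : α (x ^ p) = (x ^ p) ^ (κ + p * l) := by
      have h2 : Commute (x ^ κ * w ^ j) c := (hCcen c hc _).symm
      have h3 : Commute (x ^ κ) (w ^ j) := ((hxW w hwW).zpow_left κ).zpow_right j
      rw [map_pow, hαx, h2.mul_pow, h3.mul_pow]
      have h4 : (w ^ j) ^ p = 1 := by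
        rw [← zpow_natCast (w ^ j), ← zpow_mul, mul_comm, zpow_mul, zpow_natCast, hwp, one_zpow]
      rw [h4, mul_one, ← hl', zpow_add]
      congr 1
      · rw [← zpow_natCast (x ^ κ), ← zpow_mul, mul_comm, zpow_mul, zpow_natCast]
      · rw [← zpow_natCast ((x ^ p) ^ l), ← zpow_mul, mul_comm l]
    rw [← hm', map_zpow, h1, ← zpow_mul, mul_comm, zpow_mul, hm', zpow_add, zpow_mul,
      zpow_natCast, hzp, one_zpow, mul_one]
  -- the action on `W / Z`
  set y := (e ^ b)⁻¹ * α e with hy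
  have hyW : y ∈ W := ⟨E.mul_mem (E.inv_mem (E.zpow_mem he b)) (hαE e he), hb⟩
  have hαe : α e = e ^ b * y := by rw [hy, mul_inv_cancel_left]
  have hcomm2 : ∀ t : N, (∀ y ∈ W, Commute t y) → ⁅t, α e⁆ = ⁅t, e ^ b⁆ := by
    intro t ht
    rw [hαe]
    have h1 : ⁅t, e ^ b * y⁆ = ⁅t, e ^ b⁆ * (e ^ b * ⁅t, y⁆ * (e ^ b)⁻¹) := by
      simp only [commutatorElement_def]
      group
    rw [h1, commutatorElement_eq_one_iff_mul_comm.2 (ht y hyW).eq, mul_one, mul_inv_cancel, mul_one]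
  have hαw : ∃ z' ∈ Z, α w = w ^ (κ * b) * z' := by
    have h1 : α w = ⁅α x, e ^ b⁆ := by
      rw [hwdef, map_commutatorElement, hcomm2 _ hαxW]
    have h2 : ⁅α x, e ^ b⁆ = (⁅α x, e⁆ * e) ^ b * (e ^ b)⁻¹ := by
      rw [commutatorElement_def, ← conj_zpow]
      congr 2
      rw [commutatorElement_def]
      group
    refine ⟨(w ^ (κ * b))⁻¹ * α w, ?_, by rw [mul_inv_cancel_left]⟩
    rw [← QuotientGroup.eq_one_iff]
    have h3 : (QuotientGroup.mk' Z) (⁅α x, e⁆) = QuotientGroup.mk' Z w ^ κ := by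
      rw [hκj, map_mul, map_zpow, map_zpow]
      have : QuotientGroup.mk' Z z = 1 := (QuotientGroup.eq_one_iff z).2 hzZ
      rw [this, one_zpow, mul_one]
    have h4 : Commute (QuotientGroup.mk' Z w) (QuotientGroup.mk' Z e) := by
      have : (QuotientGroup.mk' Z) ⁅w, e⁆ = 1 := (QuotientGroup.eq_one_iff _).2 hzZ
      rw [map_commutatorElement] at this
      exact commutatorElement_eq_one_iff_mul_comm.1 this
    show (QuotientGroup.mk' Z) ((w ^ (κ * b))⁻¹ * α w) = 1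
    rw [h1, h2, map_mul, map_inv, map_zpow, map_mul, map_zpow, map_mul, h3, map_inv, map_zpow,
      (h4.zpow_left κ).mul_zpow, mul_inv_cancel_right, ← zpow_mul, inv_mul_cancel]
  obtain ⟨z', hz', hαw⟩ := hαw
  have hαz2 : α z = z ^ (κ * b * b) := by
    have h1 : α z = ⁅α w, e ^ b⁆ := by
      rw [hzdef, map_commutatorElement, hcomm2 _ (fun y hy => hWcomm _ (hαW1 w hwW) y hy)]
    have h2 : ⁅w ^ (κ * b) * z', e ^ b⁆ = ⁅w ^ (κ * b), e ^ b⁆ := by
      have h3 : ⁅w ^ (κ * b) * z', e ^ b⁆ = w ^ (κ * b) * ⁅z', e ^ b⁆ * (w ^ (κ * b))⁻¹ *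
          ⁅w ^ (κ * b), e ^ b⁆ := by
        simp only [commutatorElement_def]
        group
      rw [h3, commutatorElement_eq_one_iff_mul_comm.2 (hZcen z' hz' _).eq, mul_one,
        mul_inv_cancel, one_mul]
    rw [h1, hαw, h2]
    have h4 : ⁅w ^ (κ * b), e⁆ = z ^ (κ * b) := hwz _
    have h5 := comm_zpow_right (x := w ^ (κ * b)) (y := e)
      (by rw [h4]; exact hZcen _ (Z.zpow_mem hzZ _) e) b
    rw [h5, h4, ← zpow_mul]
  -- conclusion
  have h1 : κ ≡ κ * b * b [ZMOD p] := modEq_of_zpow_eq hzp hz1 (by rw [← hαz, ← hαz2])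
  have h2 : ¬ (p : ℤ) ∣ κ := by
    rintro ⟨l, hl⟩
    have h3 : α w ∈ Z := by
      rw [hαw, hl, mul_assoc, zpow_mul, zpow_natCast, hwp, one_zpow, one_mul]
      exact hz'
    have h4 := hαZ2 _ h3
    rw [MulAut.inv_apply_self] at h4
    exact hxe h4
  have h3 : (p : ℤ) ∣ κ * (b * b - 1) := by
    have := h1.dvd
    have h4 : κ * b * b - κ = κ * (b * b - 1) := by ring
    rwa [h4] at this
  have h4 := (Nat.prime_iff_prime_int.1 hp.out).dvd_or_dvd h3
  have h5 := h4.resolve_left h2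
  exact (Int.modEq_iff_dvd.2 h5).symm

end Cfsg.Agent.H791
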