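import Cfsg.Agent.S1447
import Cfsg.Agent.H790.CycChain

/-!
# Automorphisms of order prime to `p` of metacyclic `p`-groups (helper791)
-/

set_option autoImplicit false

namespace Cfsg.Agent.H791

open Subgroup Cfsg
open scoped commutatorElement

theorem pow_eq_one_of_mem_zpowers {X : Type*} [Group X] {p : ℕ} {x y : X} (hx : orderOf x = p)
    (hy : y ∈ zpowers x) : y ^ p = 1 := by
  obtain ⟨k, rfl⟩ := hy
  show (x ^ k) ^ p = 1
  rw [← zpow_natCast, ← zpow_mul, mul_comm, zpow_mul, zpow_natCast, ← hx, pow_orderOf_eq_one,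
    one_zpow]

/-- A metacyclic group of exponent dividing `p` has at most `p ^ 2` elements. -/
theorem card_le_of_metacyclic {E : Type*} [Group E] [Finite E] {p : ℕ} (hp : 0 < p)
    (hm : IsMetacyclic E) (hE : ∀ x : E, x ^ p = 1) : Nat.card E ≤ p ^ 2 := by
  obtain ⟨N, hN, hc, hq⟩ := hm
  have key : ∀ (X : Type _) [Group X] [Finite X] [IsCyclic X], (∀ x : X, x ^ p = 1) →
      Nat.card X ≤ p := by
    intro X _ _ _ hX
    obtain ⟨g, hg⟩ := IsCyclic.exists_generator (α := X)
    rw [← orderOf_eq_card_of_forall_mem_zpowers hg]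
    exact Nat.le_of_dvd hp (orderOf_dvd_of_pow_eq_one (hX g))
  have h1 : Nat.card N ≤ p := key N (fun x => Subtype.ext (by simpa using hE x))
  have h2 : Nat.card (E ⧸ N) ≤ p := key (E ⧸ N) (fun x => by
    obtain ⟨x, rfl⟩ := QuotientGroup.mk_surjective x
    rw [← QuotientGroup.mk_pow, hE x]
    rfl)
  rw [Subgroup.card_eq_card_quotient_mul_card_subgroup N, pow_two]
  exact Nat.mul_le_mul h2 h1

/-- An abelian metacyclic `p`-group with a repeated invariant is homocyclic of rank two. -/
theorem subsingleton_of_split {S : Type*} [Group S] [Finite S] {p : ℕ} [Fact p.Prime]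
    (hS : IsPGroup p S) (hm : IsMetacyclic S) {n : ℕ} (hn : 0 < n) {H : Type*} [CommGroup H]
    (e : S ≃* (Multiplicative (ZMod (p ^ n)) × Multiplicative (ZMod (p ^ n))) × H) :
    Subsingleton H := by
  have hp : p.Prime := Fact.out
  have hNZ : NeZero (p ^ n) := ⟨(pow_pos hp.pos n).ne'⟩
  by_contra hns
  rw [not_subsingleton_iff_nontrivial] at hns
  have hHf : Finite H := Finite.of_injective (fun h : H => e.symm (1, h))
    (fun a b h => by simpa using e.symm.injective h)
  have hHp : IsPGroup p H := by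
    refine hS.of_injective (e.symm.toMonoidHom.comp (MonoidHom.inr _ H)) ?_
    intro a b h
    have := e.symm.injective h
    simpa using this
  have hdvd : p ∣ Nat.card H := by
    obtain ⟨k, hk⟩ := IsPGroup.iff_card.1 hHp
    have h1 : 1 < Nat.card H := Finite.one_lt_card
    rw [hk] at h1 ⊢
    rcases Nat.eq_zero_or_pos k with h0 | h0
    · rw [h0] at h1; simp at h1
    · exact dvd_pow_self p h0.ne'
  obtain ⟨h0, hh0⟩ := exists_prime_orderOf_dvd_card' (G := H) p hdvd
  have hfC : Finite (Multiplicative (ZMod (p ^ n))) := inferInstanceAs (Finite (ZMod (p ^ n)))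
  have hdvd2 : p ∣ Nat.card (Multiplicative (ZMod (p ^ n))) := by
    rw [Nat.card_congr Multiplicative.toAdd, Nat.card_zmod]
    exact dvd_pow_self p hn.ne'
  obtain ⟨c0, hc0⟩ := exists_prime_orderOf_dvd_card' (G := Multiplicative (ZMod (p ^ n))) p hdvd2
  set E : Subgroup ((Multiplicative (ZMod (p ^ n)) × Multiplicative (ZMod (p ^ n))) × H) :=
    ((zpowers c0).prod (zpowers c0)).prod (zpowers h0) with hE
  have hcard : Nat.card E = p * p * p := by
    rw [Nat.card_congr (Subgroup.prodEquiv _ _).toEquiv, Nat.card_prod,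
      Nat.card_congr (Subgroup.prodEquiv _ _).toEquiv, Nat.card_prod, Nat.card_zpowers,
      Nat.card_zpowers, hc0, hh0]
  have hfE : Finite E := by
    have : Finite ((Multiplicative (ZMod (p ^ n)) × Multiplicative (ZMod (p ^ n))) × H) :=
      inferInstance
    infer_instance
  have hmE : IsMetacyclic E := OddOrderLocal.Metacyclic.isMetacyclic_of_injective
    ((e.symm.toMonoidHom).comp E.subtype) (e.symm.injective.comp E.subtype_injective) hm
  have h1 := card_le_of_metacyclic hp.pos hmE (by
    rintro ⟨⟨⟨a, b⟩, c⟩, ⟨⟨ha, hb⟩, hc⟩⟩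
    apply Subtype.ext
    show (((a, b), c) : (Multiplicative (ZMod (p ^ n)) × Multiplicative (ZMod (p ^ n))) × H) ^ p = 1
    rw [Prod.pow_mk, Prod.pow_mk, pow_eq_one_of_mem_zpowers hc0 ha,
      pow_eq_one_of_mem_zpowers hc0 hb, pow_eq_one_of_mem_zpowers hh0 hc]
    rfl)
  rw [hcard] at h1
  have h2 : p * p * 1 < p * p * p := Nat.mul_lt_mul_of_pos_left hp.one_lt (by have := hp.pos; positivity)
  rw [pow_two] at h1
  omega

/-- The `p'`-groups of automorphisms of a non-abelian metacyclic `p`-group, `p` odd. -/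
theorem condition_of_metacyclic {S : Type*} [Group S] [Finite S] {p : ℕ} [Fact p.Prime]
    (hp2 : p ≠ 2) (hS : IsPGroup p S) (hm : IsMetacyclic S) (hnab : ¬ IsMulCommutative S)
    (H : Subgroup (MulAut S)) (hH : (Nat.card H).Coprime p) :
    IsMulCommutative H ∧ ∀ h ∈ H, h ^ (p - 1) = 1 := by
  have hfin := H790.finite_mulAut S
  have : Finite (S ⋊[H.subtype] H) := Finite.of_equiv _ SemidirectProduct.equivProd.symm
  let inl : S →* S ⋊[H.subtype] H := SemidirectProduct.inl
  let inr : H →* S ⋊[H.subtype] H := SemidirectProduct.inr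
  have hinl : Function.Injective inl := SemidirectProduct.inl_injective
  have hinr : Function.Injective inr := SemidirectProduct.inr_injective
  have hconj : ∀ (h : H) (s : S), inr h * inl s * (inr h)⁻¹ = inl ((h : MulAut S) s) := by
    intro h s
    have := SemidirectProduct.inl_aut (φ := H.subtype) h s
    rw [← map_inv]
    exact this.symm
  have eS : S ≃* inl.range := MonoidHom.ofInjective hinl
  have eH : H ≃* inr.range := MonoidHom.ofInjective hinr
  have hRn : inl.range.Normal := by
    have : inl.range = (SemidirectProduct.rightHom : S ⋊[H.subtype] H →* H).ker :=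
      SemidirectProduct.range_inl_eq_ker_rightHom
    rw [this]; infer_instance
  have hRp : IsPGroup p inl.range := hS.of_equiv eS
  have hRm : IsMetacyclic inl.range :=
    OddOrderLocal.Metacyclic.isMetacyclic_of_surjective eS.toMonoidHom eS.surjective hm
  have hRnab : ¬ IsMulCommutative inl.range := by
    intro h
    apply hnab
    refine ⟨⟨fun a b => eS.injective ?_⟩⟩
    rw [map_mul, map_mul]
    exact h.1.1 _ _
  have hAN : inr.range ≤ normalizer (inl.range : Set (S ⋊[H.subtype] H)) := by
    rw [Subgroup.normalizer_eq_top]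
    exact le_top
  have hcop : (Nat.card inr.range).Coprime p := by
    rw [← Nat.card_congr eH.toEquiv]
    exact hH
  obtain ⟨-, hsup, -, h4⟩ := S1447.result p hp2 inl.range inr.range hRp hRm hAN hcop
  by_cases hcent : inr.range ≤ centralizer (inl.range : Set (S ⋊[H.subtype] H))
  · have h1 : ∀ h : H, h = 1 := by
      intro h
      apply Subtype.ext
      apply MulEquiv.ext
      intro s
      apply hinl
      rw [← hconj]
      have h2 := mem_centralizer_iff.1 (hcent ⟨h, rfl⟩) (inl s) ⟨s, rfl⟩
      rw [← h2, mul_inv_cancel_right]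
      rfl
    refine ⟨⟨⟨fun a b => ?_⟩⟩, fun h hh => ?_⟩
    · rw [h1 a, h1 b]
    · have h2 : h = 1 := congrArg Subtype.val (h1 ⟨h, hh⟩)
      rw [h2, one_pow]
  · obtain ⟨-, hYc, -, hCc, hder⟩ := h4 hRnab hcent
    set Y : Subgroup (S ⋊[H.subtype] H) := ⁅inl.range, inr.range⁆ with hY
    set C := inl.range ⊓ centralizer (inr.range : Set (S ⋊[H.subtype] H)) with hC
    have hYR : Y ≤ inl.range := by
      rw [← hsup]; exact le_sup_left
    have hCR : C ≤ inl.range := inf_le_left
    have hcyc : ∀ K : Subgroup (S ⋊[H.subtype] H), IsCyclic K →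
        ∃ x : S, K.comap inl = zpowers x := by
      intro K hK
      have h1 : IsCyclic (K.comap inl) := by
        refine isCyclic_of_injective ((inl.comp (K.comap inl).subtype).codRestrict K
          (fun x => x.2)) ?_
        intro a b hab
        exact Subtype.ext (hinl (congrArg Subtype.val hab))
      obtain ⟨x, hx⟩ := (Subgroup.isCyclic_iff_exists_zpowers_eq_top (K.comap inl)).1 h1
      exact ⟨x, hx.symm⟩
    obtain ⟨x, hx⟩ := hcyc Y hYc
    obtain ⟨y, hy⟩ := hcyc C hCc
    have hYn : (Y.comap inl).Normal := by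
      refine ⟨fun t ht s => ?_⟩
      have h1 : inl ⁅s, t⁆ ∈ Y := by
        apply hder
        rw [map_commutatorElement]
        exact commutator_mem_commutator ⟨s, rfl⟩ ⟨t, rfl⟩
      have h2 : s * t * s⁻¹ = ⁅s, t⁆ * t := by rw [commutatorElement_def]; group
      rw [h2]
      exact Subgroup.mul_mem _ h1 ht
    have hYH : ∀ a ∈ H, ∀ t ∈ Y.comap inl, a t ∈ Y.comap inl := by
      intro a ha t ht
      show inl (a t) ∈ Y
      have h1 := hconj ⟨a, ha⟩ t
      have h2 : Y.map (MulAut.conj (inr ⟨a, ha⟩)).toMonoidHom = Y := by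
        rw [hY, Subgroup.map_commutator]
        congr 1
        · ext z
          constructor
          · rintro ⟨z, hz, rfl⟩
            exact hRn.conj_mem z hz _
          · intro hz
            exact ⟨(inr ⟨a, ha⟩)⁻¹ * z * ((inr ⟨a, ha⟩)⁻¹)⁻¹, hRn.conj_mem z hz _, by simp [mul_assoc]⟩
        · ext z
          constructor
          · rintro ⟨_, ⟨b, rfl⟩, rfl⟩
            exact ⟨⟨a, ha⟩ * b * (⟨a, ha⟩ : H)⁻¹, by simp⟩
          · rintro ⟨b, rfl⟩
            exact ⟨inr ((⟨a, ha⟩ : H)⁻¹ * b * ⟨a, ha⟩), ⟨_, rfl⟩, by simp [mul_assoc]⟩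
      rw [← h2]
      exact ⟨inl t, ht, h1⟩
    have htop : (⊤ : Subgroup S) = Y.comap inl ⊔ zpowers y := by
      rw [← hy]
      apply Subgroup.map_injective hinl
      rw [Subgroup.map_sup, Subgroup.map_comap_eq_self hYR, Subgroup.map_comap_eq_self hCR, hsup]
      exact (MonoidHom.range_eq_map inl).symm
    have hbot : H790.CC H ⊥ := H790.CC.bot
    have hs1 : H790.CC H (Y.comap inl) := by
      refine H790.CC.step x hbot inferInstance (fun a _ t ht => ?_) hYH ?_
      · rw [mem_bot] at ht ⊢
        rw [ht, map_one]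
      · rw [bot_sup_eq, hx]
    have hs2 : H790.CC H ⊤ := H790.CC.step y hs1 hYn hYH (fun a _ t _ => mem_top _) htop
    exact H790.abelian_of_cc hS hs2 H le_rfl hH

end Cfsg.Agent.H791
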