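import Cfsg.Agent.H791.OnTwo
import Cfsg.Agent.H791.OnOne
import Cfsg.Agent.H681.GmnLie

/-!
# S3855: the rows of the groups of Lie type in odd defining characteristic (helper791, task 1011)
-/

set_option autoImplicit false
set_option linter.unusedSectionVars false

namespace Cfsg.Agent.H791.OnLie

open Cfsg Subgroup Cfsg.Agent.H681.GmnTypes Cfsg.Agent.H681.GmnLie Cfsg.Agent.Omega.ML.Ex.Typ
  Cfsg.Agent.H467.OddNorm Cfsg.Agent.H952.On Cfsg.Agent.H791.OnRgd Cfsg.Agent.H791.OnTwo Cfsg.Agent.H791.OnOne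

/-- **The rows in odd defining characteristic.** -/
theorem row_lie {p : ℕ} [hp : Fact p.Prime] (hp2 : p ≠ 2) {S : Type} [Group S] [Finite S] (hZ : center S = ⊥)
    (h : IsLieTypeChar p S) : Row p S := by
  have key : ∀ {l : ℕ} {M : CoxeterMatrix (Fin l)}, Rigid p M → HasRGDT p M S → Row p S := fun hM hG =>
    Row.of_evA hZ (evA_of_rigid hp.out hp2 hM hZ hG)
  rcases h with h | h | h | h | h | h | h | h | h | h | h
  · obtain ⟨F, _, _, hc, n, hn, h4, ⟨e⟩⟩ := h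
    rcases hn.eq_or_lt with h2 | h2
    · subst h2
      have hZ' := center_of_equiv e hZ
      have : Finite (Matrix.ProjectiveSpecialLinearGroup (Fin 2) F) := Finite.of_equiv S e.toEquiv
      by_cases hsq : IsSquare (-1 : F)
      · exact Row.congr e.symm (Row.ev (ev_psl_two_sq hp2 hsq hZ'))
      · refine Or.inr (Or.inl ⟨F, inferInstance, inferInstance, ?_, ?_, ⟨e⟩⟩)
        · obtain ⟨f, -, hf⟩ := FiniteField.card F p
          exact ⟨f, hf⟩
        · by_contra h3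
          exact hsq (FiniteField.isSquare_neg_one_iff.2 h3)
    · obtain ⟨n, rfl⟩ : ∃ k, n = k + 1 := ⟨n - 1, by omega⟩
      exact key (rigid_A hp.out hp2 (by omega)) ((typ_PSL n).of_equiv e.symm)
  · obtain ⟨F, _, _, hc, m, hm, -, ⟨e⟩⟩ := h
    rcases hm.eq_or_lt with h2 | h2
    · subst h2
      have hZ' := center_of_equiv e hZ
      have : Finite (PSp 2 F) := Finite.of_equiv S e.toEquiv
      exact Row.congr e.symm (Row.of_evA hZ' (evA_PSp_two hp2 hZ'))
    · exact key (rigid_B hp.out hp2 (by omega)) ((typ_PSp (by omega)).of_equiv e.symm)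
  · obtain ⟨F, _, _, hc, n, q, hF, hn, -, ⟨e⟩⟩ := h
    have hZ' := center_of_equiv e hZ
    have : Finite (PSU n F q) := Finite.of_equiv S e.toEquiv
    rcases (by omega : n = 3 ∨ (n = 4 ∨ n = 5) ∨ 6 ≤ n) with h2 | h2 | h2
    · subst h2
      exact Row.congr e.symm (Row.ev (ev_psu_three hF hp2 hZ'))
    · exact Row.congr e.symm (Row.of_evA hZ' (evA_PSU_two hF h2 hp2 hZ'))
    · obtain ⟨m, hm, hG⟩ := typ_PSU (p := p) hF hn
      exact key (rigid_B hp.out hp2 (n := m) (by omega)) (hG.of_equiv e.symm)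
  · obtain ⟨F, _, _, hc, m, hm, hodd, ⟨e⟩⟩ := h
    have h2 : (2 : F) ≠ 0 := by
      intro h2
      have h3 : ((2 : ℕ) : F) = 0 := by exact_mod_cast h2
      rw [CharP.cast_eq_zero_iff F p] at h3
      exact hp2 ((Nat.prime_dvd_prime_iff_eq hp.out Nat.prime_two).1 h3)
    exact key (rigid_B hp.out hp2 (n := m) (by omega))
      ((Cfsg.Agent.H410.Types.typ_PO_odd h2 (by omega)).of_equiv e.symm)
  · obtain ⟨F, _, _, hc, m, hm, ⟨e⟩⟩ := h
    obtain ⟨n, rfl⟩ : ∃ n, m = n + 3 := ⟨m - 3, by omega⟩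
    exact key (rigid_D p (n := n) (by omega)) ((typ_PO_plus n).of_equiv e.symm)
  · obtain ⟨F, _, _, hc, m, a, b, hm, hab, ⟨e⟩⟩ := h
    exact key (rigid_B hp.out hp2 (n := m - 1) (by omega)) ((typ_PO_minus hab (by omega)).of_equiv e.symm)
  · obtain ⟨F, _, _, hc, h⟩ := id h
    rcases h with ⟨-, ⟨e⟩⟩ | ⟨⟨e⟩⟩ | ⟨⟨e⟩⟩ | ⟨⟨e⟩⟩ | ⟨⟨e⟩⟩
    · have hZ' := center_of_equiv e hZ
      have : Finite ↥(Cfsg.Lie.chevG2.group F) := Finite.of_equiv S e.toEquiv
      exact Row.congr e.symm (Row.of_evA hZ' (evA_G2 hp2 hZ'))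
    · exact key (rigid_F4 hp.out hp2) ((typ_group (by simp [Nodes.RGDChev.IsType, Nodes.RGDChev.typeList]) F p).of_equiv e.symm)
    · exact key (rigid_E6 p) ((typ_group (by simp [Nodes.RGDChev.IsType, Nodes.RGDChev.typeList]) F p).of_equiv e.symm)
    · exact key (rigid_E7 p) ((typ_group (by simp [Nodes.RGDChev.IsType, Nodes.RGDChev.typeList]) F p).of_equiv e.symm)
    · exact key (rigid_E8 p) ((typ_group (by simp [Nodes.RGDChev.IsType, Nodes.RGDChev.typeList]) F p).of_equiv e.symm)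
  · obtain ⟨K, _, _, hc, q, hq, ⟨hK, ⟨e⟩⟩ | ⟨hK, ⟨e⟩⟩⟩ := h
    · exact key (rigid_F4 hp.out hp2) ((typ_twE6 hq hK p).of_equiv e.symm)
    · have hZ' := center_of_equiv e hZ
      have : Finite ↥(Cfsg.Lie.twistedD4 K q) := Finite.of_equiv S e.toEquiv
      exact Row.congr e.symm (Row.of_evA hZ' (evA_twD4 hq hK hp2 hZ'))
  · exact absurd h.1 hp2
  · exact absurd h.1 hp2
  · obtain ⟨rfl, h⟩ := h
    exact Row.ev (ev_isoRee h hZ)

/-- **ON-LIE** (task 1011 of S3855) -/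
theorem lie {p : ℕ} [hp : Fact p.Prime] (hp2 : p ≠ 2) : RowFor p (fun X _ => IsLieTypeChar p X) := by
  intro X _ _ _ hna _ h
  refine row_lie hp2 (center_eq_bot_of_simple fun hc => hna ⟨⟨hc⟩⟩) h

end Cfsg.Agent.H791.OnLie
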