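import Cfsg.Agent.TwoFusion.QDBasic

/-!
# Quasi-dihedral groups of the same order are isomorphic (helper791)
-/

set_option autoImplicit false

namespace Cfsg.Agent.H791

open Cfsg.Agent.TwoFusion.QDBasic

section qd

variable {W W' : Type*} [Group W] [Group W'] {n : ℕ} {u : ZMod (2 ^ n) → W} {y : W}
  {u' : ZMod (2 ^ n) → W'} {y' : W'}

/-- the coordinate map -/
def qmap (u : ZMod (2 ^ n) → W) (y : W) : ZMod (2 ^ n) × Bool → W :=
  fun p => bif p.2 then u p.1 * y else u p.1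

theorem qmap_bij (h : IsQDCoord n u y) : Function.Bijective (qmap u y) := by
  constructor
  · rintro ⟨a, b⟩ ⟨a', b'⟩ hab
    cases b <;> cases b' <;> simp only [qmap, cond_true, cond_false] at hab
    · rw [h.u_inj _ _ hab]
    · exact absurd hab (h.u_ne _ _)
    · exact absurd hab.symm (h.u_ne _ _)
    · rw [h.u_inj _ _ (mul_right_cancel hab)]
  · intro s
    rcases h.cases s with ⟨a, rfl⟩ | ⟨a, rfl⟩
    · exact ⟨(a, false), rfl⟩
    · exact ⟨(a, true), rfl⟩

/-- the common multiplication -/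
def qmul (n : ℕ) (p q : ZMod (2 ^ n) × Bool) : ZMod (2 ^ n) × Bool :=
  (p.1 + (bif p.2 then ((2 : ZMod (2 ^ n)) ^ (n - 1) - 1) * q.1 else q.1), xor p.2 q.2)

theorem qmap_mul (h : IsQDCoord n u y) (p q : ZMod (2 ^ n) × Bool) :
    qmap u y p * qmap u y q = qmap u y (qmul n p q) := by
  obtain ⟨a, b⟩ := p
  obtain ⟨a', b'⟩ := q
  cases b <;> cases b' <;>
    simp only [qmap, qmul, cond_true, cond_false, Bool.xor_false, Bool.xor_true, Bool.not_true,
      Bool.not_false]
  · exact h.u_mul _ _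
  · rw [← mul_assoc, h.u_mul]
  · rw [mul_assoc, h.y_u, ← mul_assoc, h.u_mul]
  · rw [mul_assoc, ← mul_assoc y, h.y_u, mul_assoc (u _) y y, h.y_y, mul_one, h.u_mul]

theorem qd_iso (h : IsQDCoord n u y) (h' : IsQDCoord n u' y') : Nonempty (W ≃* W') := by
  refine ⟨MulEquiv.mk' ((Equiv.ofBijective _ (qmap_bij h)).symm.trans
    (Equiv.ofBijective _ (qmap_bij h'))) ?_⟩
  intro s t
  obtain ⟨p, rfl⟩ := (qmap_bij h).2 s
  obtain ⟨q, rfl⟩ := (qmap_bij h).2 t
  rw [qmap_mul h]
  have e : ∀ p, (Equiv.ofBijective _ (qmap_bij h)).symm (qmap u y p) = p :=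
    fun p => (Equiv.ofBijective _ (qmap_bij h)).symm_apply_apply p
  simp only [Equiv.trans_apply, e]
  exact (qmap_mul h' p q).symm

end qd

/-- Quasi-dihedral groups of the same order are isomorphic. -/
theorem qd_equiv {W W' : Type*} [Group W] [Finite W] [Group W'] [Finite W']
    (h : Cfsg.IsQuasiDihedral W) (h' : Cfsg.IsQuasiDihedral W') (hc : Nat.card W = Nat.card W') :
    Nonempty (W ≃* W') := by
  obtain ⟨n, u, y, hn⟩ := exists_qdcoord h
  obtain ⟨u', y', hn'⟩ := exists_qdcoord' h' n (by rw [← hc, hn.card])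
  exact qd_iso hn hn'

end Cfsg.Agent.H791
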