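import Cfsg.Agent.H791.Section
import Cfsg.Agent.Classification.TypeZ.Critical
import Cfsg.Agent.PLocal.ZJ

/-!
# `p`-groups of rank at most 2 with a large group of automorphisms (helper791)
-/

set_option autoImplicit false

namespace Cfsg.Agent.H791

open Subgroup
open scoped commutatorElement

variable {p : ℕ} [hp : Fact p.Prime] {R : Type*} [Group R]

/-- the centre of `H`, as a subgroup of the whole group -/
def zOf (H : Subgroup R) : Subgroup R := H ⊓ centralizer (H : Set R)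

theorem mem_zOf {H : Subgroup R} {x : R} : x ∈ zOf H ↔ x ∈ H ∧ ∀ y ∈ H, y * x = x * y := by
  rw [zOf, mem_inf, mem_centralizer_iff]
  exact Iff.rfl

theorem zOf_le (H : Subgroup R) : zOf H ≤ H := inf_le_left

theorem zOf_char {H : Subgroup R} (hH : H.Characteristic) : (zOf H).Characteristic := by
  rw [characteristic_iff_le_comap]
  intro α x hx
  rw [mem_comap]
  rw [mem_zOf] at hx ⊢
  refine ⟨char_apply_mem hH α hx.1, fun y hy => ?_⟩
  have h1 := hx.2 (α⁻¹ y) (char_apply_mem hH α⁻¹ hy)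
  have h2 := congrArg α h1
  rw [map_mul, map_mul, MulAut.apply_inv_self] at h2
  exact h2

omit hp in
theorem mem_of_comm [Finite R] (hrk : ∀ E : Subgroup R, IsElementaryAbelian p E → Nat.card E ≤ p ^ 2)
    {E : Subgroup R} (hE : IsElementaryAbelian p E) (hc : Nat.card E = p ^ 2) {t : R}
    (ht : t ^ p = 1) (hcomm : ∀ a ∈ E, a * t = t * a) : t ∈ E := by
  by_contra h
  have h1 := hrk _ (Cfsg.Agent.PLocal.ZJ.isElementaryAbelian_sup_zpowers hE ht hcomm)
  have h2 : E < E ⊔ zpowers t := by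
    refine lt_of_le_of_ne le_sup_left fun heq => h ?_
    rw [heq]
    exact (le_sup_right : zpowers t ≤ _) (mem_zpowers t)
  have h3 : Nat.card E < Nat.card (E ⊔ zpowers t : Subgroup R) :=
    Set.ncard_lt_ncard h2 (Set.toFinite _)
  omega

/-- The structure of a nonabelian subgroup of class 2 and exponent `p` in a group of rank at most 2. -/
theorem card_of_class_two [Finite R] (hR : IsPGroup p R)
    (hrk : ∀ E : Subgroup R, IsElementaryAbelian p E → Nat.card E ≤ p ^ 2) {H : Subgroup R}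
    (hexp : ∀ x ∈ H, x ^ p = 1) (hcl : ∀ x ∈ H, ∀ y ∈ H, ⁅x, y⁆ ∈ zOf H)
    (hna : ∃ x ∈ H, ∃ y ∈ H, x * y ≠ y * x) : Nat.card (zOf H) = p ∧ Nat.card H = p ^ 3 := by
  have hZel : IsElementaryAbelian p (zOf H) := by
    refine ⟨⟨⟨fun x y => Subtype.ext ?_⟩⟩, fun x hx => hexp x (zOf_le H hx)⟩
    exact (mem_zOf.1 y.2).2 x (zOf_le H x.2)
  obtain ⟨x, hx, y, hy, hxy⟩ := hna
  have hxZ : x ∉ zOf H := fun h => hxy ((mem_zOf.1 h).2 y hy).symm
  have hcne : ⁅x, y⁆ ≠ 1 := by
    intro h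
    exact hxy (commutatorElement_eq_one_iff_mul_comm.1 h)
  obtain ⟨k, hk⟩ := IsPGroup.iff_card.1 (hR.to_subgroup (zOf H))
  have hk2 : k ≤ 2 := by
    have := hrk _ hZel
    rw [hk] at this
    exact (Nat.pow_le_pow_iff_right hp.out.one_lt).1 this
  have hk0 : k ≠ 0 := by
    rintro rfl
    rw [pow_zero, Subgroup.card_eq_one] at hk
    apply hcne
    have := hcl x hx y hy
    rwa [hk, mem_bot] at this
  have hkne : k ≠ 2 := by
    rintro rfl
    exact hxZ (mem_of_comm hrk hZel hk (hexp x hx) fun a ha => ((mem_zOf.1 ha).2 x hx).symm)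
  have hk1 : k = 1 := by omega
  subst hk1
  rw [pow_one] at hk
  refine ⟨hk, ?_⟩
  -- the subgroup `E = Z ⟨x⟩`
  have hEel := Cfsg.Agent.PLocal.ZJ.isElementaryAbelian_sup_zpowers hZel (hexp x hx)
    (fun a ha => ((mem_zOf.1 ha).2 x hx).symm)
  set E : Subgroup R := zOf H ⊔ zpowers x with hE
  have hEle : E ≤ H := sup_le (zOf_le H) (by rwa [zpowers_le])
  have hxE : x ∈ E := (le_sup_right : zpowers x ≤ _) (mem_zpowers x)
  have hZE : zOf H < E := by
    refine lt_of_le_of_ne le_sup_left fun heq => hxZ ?_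
    rw [heq]
    exact hxE
  have hcardE : Nat.card E = p ^ 2 := by
    have h1 : Nat.card (zOf H) < Nat.card E := Set.ncard_lt_ncard hZE (Set.toFinite _)
    obtain ⟨l, hl⟩ := IsPGroup.iff_card.1 (hR.to_subgroup E)
    have h2 := hrk _ hEel
    rw [hl] at h1 h2 ⊢
    rw [hk] at h1
    have h3 : l ≤ 2 := (Nat.pow_le_pow_iff_right hp.out.one_lt).1 h2
    have h4 : 1 < l := by
      rw [← Nat.pow_lt_pow_iff_right hp.out.one_lt]
      rwa [pow_one]
    have h5 : l = 2 := by omega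
    rw [h5]
  -- the homomorphism `y ↦ ⁅y, x⁆`
  have hcent : ∀ c ∈ zOf H, ∀ z ∈ H, z * c = c * z := fun c hc z hz => (mem_zOf.1 hc).2 z hz
  let f : H →* zOf H :=
    { toFun := fun y => ⟨⁅(y : R), x⁆, hcl y y.2 x hx⟩
      map_one' := Subtype.ext (by simp)
      map_mul' := fun y z => Subtype.ext (by
        show ⁅(y : R) * z, x⁆ = ⁅(y : R), x⁆ * ⁅(z : R), x⁆
        have h1 : ⁅(y : R) * z, x⁆ = (y : R) * ⁅(z : R), x⁆ * (y : R)⁻¹ * ⁅(y : R), x⁆ := by
          simp only [commutatorElement_def]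
          group
        rw [h1, hcent _ (hcl z z.2 x hx) y y.2, mul_inv_cancel_right]
        exact hcent _ (hcl y y.2 x hx) _ (zOf_le H (hcl z z.2 x hx))) }
  have hker : Nat.card f.ker ≤ p ^ 2 := by
    rw [← hcardE]
    refine Nat.card_le_card_of_injective (fun y : f.ker => (⟨(y : H), ?_⟩ : E)) ?_
    · have h1 : f (y : H) = 1 := y.2
      have h2 : ⁅((y : H) : R), x⁆ = 1 := congrArg Subtype.val h1
      have h3 := commutatorElement_eq_one_iff_mul_comm.1 h2
      refine mem_of_comm hrk hEel hcardE (hexp _ (y : H).2) fun a ha => ?_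
      -- `y` commutes with `Z` and `x`
      have h4 : E ≤ centralizer {((y : H) : R)} := by
        refine sup_le ?_ ?_
        · intro c hc
          rw [mem_centralizer_singleton_iff]
          exact (hcent c hc _ (y : H).2).symm
        · rw [zpowers_le, mem_centralizer_singleton_iff]
          exact h3.symm
      exact mem_centralizer_singleton_iff.1 (h4 ha)
    · intro y z hyz
      have := congrArg Subtype.val hyz
      exact Subtype.ext (Subtype.ext this)
  have hrange : Nat.card f.range ≤ p := by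
    rw [← hk]
    exact card_le_card_group f.range
  have hcard : Nat.card H ≤ p ^ 3 := by
    have h1 : Nat.card H = Nat.card f.ker * Nat.card f.range := by
      rw [card_eq_card_quotient_mul_card_subgroup f.ker, mul_comm]
      congr 1
      exact Nat.card_congr (QuotientGroup.quotientKerEquivRange f).toEquiv
    rw [h1]
    calc Nat.card f.ker * Nat.card f.range ≤ p ^ 2 * p := Nat.mul_le_mul hker hrange
      _ = p ^ 3 := by ring
  have hlt : Nat.card E < Nat.card H := by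
    have hne : E ≠ H := by
      intro heq
      have hyE : y ∈ E := by rwa [heq]
      have := hEel.1.1.1 ⟨x, hxE⟩ ⟨y, hyE⟩
      exact hxy (congrArg Subtype.val this)
    have hElt : E < H := lt_of_le_of_ne hEle hne
    exact Set.ncard_lt_ncard hElt (Set.toFinite _)
  obtain ⟨l, hl⟩ := IsPGroup.iff_card.1 (hR.to_subgroup H)
  rw [hl, hcardE] at hlt
  rw [hl] at hcard ⊢
  have h3 : l ≤ 3 := (Nat.pow_le_pow_iff_right hp.out.one_lt).1 hcard
  have h4 : 2 < l := (Nat.pow_lt_pow_iff_right hp.out.one_lt).1 hlt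
  have h5 : l = 3 := by omega
  rw [h5]

/-- commutators with central commutator: `⁅x ^ i, y⁆ = ⁅x, y⁆ ^ i` -/
theorem comm_zpow_left {G : Type*} [Group G] {x y : G} (h : Commute ⁅x, y⁆ x) (i : ℤ) :
    ⁅x ^ i, y⁆ = ⁅x, y⁆ ^ i := by
  have h1 : y * x * y⁻¹ = ⁅x, y⁆⁻¹ * x := by
    rw [commutatorElement_def]
    group
  have h2 : y * x ^ i * y⁻¹ = ⁅x, y⁆⁻¹ ^ i * x ^ i := by
    rw [← (h.inv_left).mul_zpow, ← h1, conj_zpow]
  have h3 : ⁅x ^ i, y⁆ = x ^ i * (y * x ^ i * y⁻¹)⁻¹ := by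
    rw [commutatorElement_def]
    group
  rw [h3, h2, mul_inv_rev, mul_inv_cancel_left, inv_zpow, inv_inv]

/-- commutators with central commutator: `⁅x, y ^ j⁆ = ⁅x, y⁆ ^ j` -/
theorem comm_zpow_right {G : Type*} [Group G] {x y : G} (h : Commute ⁅x, y⁆ y) (j : ℤ) :
    ⁅x, y ^ j⁆ = ⁅x, y⁆ ^ j := by
  have h1 : x * y * x⁻¹ = ⁅x, y⁆ * y := by
    rw [commutatorElement_def]
    group
  have h2 : x * y ^ j * x⁻¹ = ⁅x, y⁆ ^ j * y ^ j := by
    rw [← h.mul_zpow, ← h1, conj_zpow]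
  rw [commutatorElement_def, h2, mul_inv_cancel_right]

/-- generation of `H` by two noncommuting elements and the centre -/
theorem le_of_generators [Finite R] (hR : IsPGroup p R)
    {H : Subgroup R} (hZ : Nat.card (zOf H) = p) (hH : Nat.card H = p ^ 3)
    {x y : R} (hx : x ∈ H) (hy : y ∈ H) (hxy : x * y ≠ y * x) {L : Subgroup R} (h1 : zOf H ≤ L)
    (h2 : x ∈ L) (h3 : y ∈ L) : H ≤ L := by
  have hlt : ∀ {A B : Subgroup R}, A < B → p * Nat.card A ≤ Nat.card B := by
    intro A B hAB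
    obtain ⟨l, hl⟩ := IsPGroup.iff_card.1 (hR.to_subgroup A)
    obtain ⟨k, hk⟩ := IsPGroup.iff_card.1 (hR.to_subgroup B)
    have h4 : Nat.card A < Nat.card B := Set.ncard_lt_ncard hAB (Set.toFinite _)
    rw [hl, hk] at h4 ⊢
    have h5 := (Nat.pow_lt_pow_iff_right hp.out.one_lt).1 h4
    rw [← pow_succ']
    exact Nat.pow_le_pow_right hp.out.pos (by omega)
  have hxZ : x ∉ zOf H := fun h => hxy ((mem_zOf.1 h).2 y hy).symm
  have h4 : zOf H < H ⊓ L ⊓ centralizer {x} := by
    refine lt_of_le_of_ne (le_inf (le_inf (zOf_le H) h1) ?_) ?_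
    · intro c hc
      rw [mem_centralizer_singleton_iff]
      exact ((mem_zOf.1 hc).2 x hx).symm
    · intro heq
      apply hxZ
      rw [heq]
      exact ⟨⟨hx, h2⟩, mem_centralizer_singleton_iff.2 rfl⟩
  have h5 : H ⊓ L ⊓ centralizer {x} < H ⊓ L := by
    refine lt_of_le_of_ne inf_le_left ?_
    intro heq
    have : y ∈ H ⊓ L ⊓ centralizer {x} := by
      rw [heq]
      exact ⟨hy, h3⟩
    exact hxy (mem_centralizer_singleton_iff.1 this.2).symm
  have h6 := hlt h4
  have h7 := hlt h5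
  have h8 : Nat.card H ≤ Nat.card (H ⊓ L : Subgroup R) := by
    rw [hH]
    rw [hZ] at h6
    calc p ^ 3 = p * (p * p) := by ring
      _ ≤ p * Nat.card (H ⊓ L ⊓ centralizer {x} : Subgroup R) := Nat.mul_le_mul_left _ h6
      _ ≤ _ := h7
  have h9 := eq_of_le_of_card_ge inf_le_left h8
  rw [← h9]
  exact inf_le_right

/-- every element of a subgroup of order `p` is a power of any nontrivial element -/
theorem exists_zpow_of_card_prime {Z : Subgroup R} (hZ : Nat.card Z = p) {z : R} (hz : z ∈ Z)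
    (hz1 : z ≠ 1) {y : R} (hy : y ∈ Z) : ∃ i : ℤ, y = z ^ i := by
  have h1 : (⟨z, hz⟩ : Z) ≠ 1 := fun h => hz1 (congrArg Subtype.val h)
  have h2 := mem_zpowers_of_prime_card hZ (g := ⟨z, hz⟩) (g' := ⟨y, hy⟩) h1
  obtain ⟨i, hi⟩ := h2
  exact ⟨i, (congrArg Subtype.val hi).symm⟩

/-- an automorphism acting trivially on `H / Z(H)` fixes `Z(H)` -/
theorem fix_center {H : Subgroup R} (hZ : Nat.card (zOf H) = p)
    (hcl : ∀ x ∈ H, ∀ y ∈ H, ⁅x, y⁆ ∈ zOf H) (hna : ∃ x ∈ H, ∃ y ∈ H, x * y ≠ y * x)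
    {α : MulAut R} (hα : ∀ x ∈ H, x⁻¹ * α x ∈ zOf H) {z : R} (hz : z ∈ zOf H) : α z = z := by
  obtain ⟨x, hx, y, hy, hxy⟩ := hna
  have hcne : ⁅x, y⁆ ≠ 1 := fun h => hxy (commutatorElement_eq_one_iff_mul_comm.1 h)
  have hc := hcl x hx y hy
  have h1 : ∀ c ∈ zOf H, ∀ d ∈ H, d * c = c * d := fun c hc d hd => (mem_zOf.1 hc).2 d hd
  obtain ⟨c, hc', hxc⟩ : ∃ c ∈ zOf H, α x = x * c := ⟨_, hα x hx, by group⟩
  obtain ⟨d, hd', hyd⟩ : ∃ d ∈ zOf H, α y = y * d := ⟨_, hα y hy, by group⟩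
  have h2 : α ⁅x, y⁆ = ⁅x, y⁆ := by
    rw [map_commutatorElement, hxc, hyd]
    have hcx : Commute x c := h1 c hc' x hx
    have hcy : Commute y c := h1 c hc' y hy
    have hdx : Commute x d := h1 d hd' x hx
    have hdy : Commute y d := h1 d hd' y hy
    have hcd : Commute c d := h1 d hd' c (zOf_le H hc')
    simp only [commutatorElement_def, mul_inv_rev]
    calc x * c * (y * d) * (c⁻¹ * x⁻¹) * (d⁻¹ * y⁻¹)
        = x * (c * y) * d * c⁻¹ * x⁻¹ * d⁻¹ * y⁻¹ := by group
      _ = x * (y * c) * d * c⁻¹ * x⁻¹ * d⁻¹ * y⁻¹ := by rw [hcy.eq]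
      _ = x * y * (c * d) * c⁻¹ * x⁻¹ * d⁻¹ * y⁻¹ := by group
      _ = x * y * (d * c) * c⁻¹ * x⁻¹ * d⁻¹ * y⁻¹ := by rw [hcd.eq]
      _ = x * y * (d * x⁻¹) * d⁻¹ * y⁻¹ := by group
      _ = x * y * (x⁻¹ * d) * d⁻¹ * y⁻¹ := by rw [hdx.inv_left.eq]
      _ = x * y * x⁻¹ * y⁻¹ := by group
  obtain ⟨i, rfl⟩ := exists_zpow_of_card_prime hZ hc hcne hz
  rw [map_zpow, h2]

/-- an automorphism acting trivially on `H / Z(H)` is inner on `H` -/
theorem exists_inner [Finite R] (hR : IsPGroup p R) {H : Subgroup R}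
    (hZ : Nat.card (zOf H) = p) (hHc : Nat.card H = p ^ 3)
    (hcl : ∀ x ∈ H, ∀ y ∈ H, ⁅x, y⁆ ∈ zOf H) (hna : ∃ x ∈ H, ∃ y ∈ H, x * y ≠ y * x)
    {α : MulAut R} (hα : ∀ x ∈ H, x⁻¹ * α x ∈ zOf H) : ∃ h ∈ H, ∀ x ∈ H, α x = h * x * h⁻¹ := by
  have hfix := fun z hz => fix_center hZ hcl hna hα (z := z) hz
  obtain ⟨x, hx, y, hy, hxy⟩ := hna
  have hcne : ⁅x, y⁆ ≠ 1 := fun h => hxy (commutatorElement_eq_one_iff_mul_comm.1 h)
  have hc := hcl x hx y hy
  have h1 : ∀ c ∈ zOf H, ∀ d ∈ H, Commute d c := fun c hc d hd => (mem_zOf.1 hc).2 d hd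
  obtain ⟨i, hi⟩ := exists_zpow_of_card_prime hZ hc hcne (hα x hx)
  obtain ⟨j, hj⟩ := exists_zpow_of_card_prime hZ hc hcne (hα y hy)
  set z := ⁅x, y⁆ with hz
  have hzx : Commute z x := (h1 z hc x hx).symm
  have hzy : Commute z y := (h1 z hc y hy).symm
  have hi' : α x = x * z ^ i := by rw [← hi]; group
  have hj' : α y = y * z ^ j := by rw [← hj]; group
  -- conjugation by powers
  have hyx : ∀ t : ℤ, y ^ t * x * (y ^ t)⁻¹ = x * z ^ (-t) := by
    intro t
    have h2 : ⁅x, y ^ t⁆ = z ^ t := comm_zpow_right hzy t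
    have h3 : y ^ t * x * (y ^ t)⁻¹ = ⁅x, y ^ t⁆⁻¹ * x := by
      rw [commutatorElement_def]
      group
    rw [h3, h2, ← zpow_neg]
    exact (hzx.zpow_left (-t)).eq
  have hxy' : ∀ t : ℤ, x ^ t * y * (x ^ t)⁻¹ = y * z ^ t := by
    intro t
    have h2 : ⁅x ^ t, y⁆ = z ^ t := comm_zpow_left hzx t
    have h3 : x ^ t * y * (x ^ t)⁻¹ = ⁅x ^ t, y⁆ * y := by
      rw [commutatorElement_def]
      group
    rw [h3, h2]
    exact (hzy.zpow_left t).eq
  set h := x ^ j * y ^ (-i) with hh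
  have hhH : h ∈ H := mul_mem (zpow_mem hx _) (zpow_mem hy _)
  refine ⟨h, hhH, ?_⟩
  have hL := le_of_generators hR hZ hHc hx hy hxy
    (L := MonoidHom.eqLocus α.toMonoidHom (MulAut.conj h).toMonoidHom) ?_ ?_ ?_
  · intro w hw
    exact hL hw
  · intro w hw
    show α w = h * w * h⁻¹
    rw [hfix w hw, (h1 w hw h hhH).eq, mul_inv_cancel_right]
  · show α x = h * x * h⁻¹
    have h2 : h * x * h⁻¹ = x ^ j * (y ^ (-i) * x * (y ^ (-i))⁻¹) * (x ^ j)⁻¹ := by
      rw [hh]
      group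
    rw [h2, hyx, neg_neg, hi']
    have h3 : Commute (x ^ j) (x * z ^ i) :=
      ((Commute.refl x).zpow_left j).mul_right ((hzx.zpow_left i).symm.zpow_left j)
    rw [h3.eq, mul_inv_cancel_right]
  · show α y = h * y * h⁻¹
    have h2 : h * y * h⁻¹ = x ^ j * (y ^ (-i) * y * (y ^ (-i))⁻¹) * (x ^ j)⁻¹ := by
      rw [hh]
      group
    have h3 : y ^ (-i) * y * (y ^ (-i))⁻¹ = y := by group
    rw [h2, h3, hxy', hj']

/-- a fixed-point-free involutory automorphism inverts every element -/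
theorem inv_of_fpf [Finite R] {t : MulAut R} (ht : t * t = 1) (hfix : ∀ x, t x = x → x = 1) (x : R) :
    t x = x⁻¹ := by
  have h1 : MonoidHom.FixedPointFree t.toMonoidHom := fun x hx => hfix x hx
  have h2 : Function.Involutive t.toMonoidHom := fun x => by
    show t (t x) = x
    rw [← MulAut.mul_apply, ht, MulAut.one_apply]
  exact congrFun (h1.coe_eq_inv_of_involutive h2) x

/-- a `p`-power-order automorphism acts trivially on an invariant subgroup of order dividing `p` -/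
theorem fix_of_card_le {H : Subgroup R} [Finite R] (hR : IsPGroup p R) (hexp : ∀ x ∈ H, x ^ p = 1)
    (hc : Nat.card H ≤ p)
    {g : MulAut R} (hg : ∀ x ∈ H, g x ∈ H) {k : ℕ} (hk : g ^ p ^ k = 1) {x : R} (hx : x ∈ H) :
    g x = x := by
  by_cases hx1 : x = 1
  · rw [hx1, map_one]
  have hcard : Nat.card H = p := by
    obtain ⟨l, hl⟩ := IsPGroup.iff_card.1 (hR.to_subgroup H)
    have h1 : l ≤ 1 := by
      rw [hl] at hc
      rw [← Nat.pow_le_pow_iff_right hp.out.one_lt]
      rwa [pow_one]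
    have h2 : l ≠ 0 := by
      rintro rfl
      rw [pow_zero, Subgroup.card_eq_one] at hl
      exact hx1 (by rwa [hl, mem_bot] at hx)
    have h3 : l = 1 := by omega
    rw [hl, h3, pow_one]
  obtain ⟨j, hj⟩ := exists_zpow_of_card_prime hcard hx hx1 (hg x hx)
  have key : ∀ n : ℕ, (g ^ n) x = x ^ (j ^ n) := by
    intro n
    induction n with
    | zero => simp
    | succ n ih => rw [pow_succ', MulAut.mul_apply, ih, map_zpow, hj, ← zpow_mul, pow_succ']
  have h1 := key (p ^ k)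
  rw [hk, MulAut.one_apply] at h1
  have h2 : j ^ p ^ k ≡ 1 [ZMOD p] := by
    refine modEq_of_zpow_eq (hexp x hx) hx1 ?_
    rw [← h1, zpow_one]
  have h3 : j ^ p ^ k ≡ j [ZMOD p] := by
    rw [← ZMod.intCast_eq_intCast_iff]
    push_cast
    rw [ZMod.pow_card_pow]
  rw [hj, zpow_congr (hexp x hx) (h3.symm.trans h2), zpow_one]

/-- Case 1 of `structure_of_rank_two`: `R` is abelian with `Ω_1(R) = E` of order `p ^ 2`, inverted by some element of
`A`, and `A` is faithful on `E`. -/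
def CaseOne (p : ℕ) (A : Subgroup (MulAut R)) (P : Subgroup A) : Prop :=
  ∃ E : Subgroup R, (∀ x, x ∈ E ↔ x ^ p = 1) ∧ E.Characteristic ∧ Nat.card E = p ^ 2 ∧
    (∀ x y : R, x * y = y * x) ∧ (∃ t ∈ A, ∀ x : R, t x = x⁻¹) ∧
    (∀ g ∈ A, (∀ x ∈ E, g x = x) → g = 1) ∧ HasDiag p A P E ⊥

/-- Case 2 of `structure_of_rank_two`: `R = E C_R(E)` with `E` characteristic, nonabelian of order `p ^ 3` and
exponent `p`. -/
def CaseTwo (p : ℕ) (A : Subgroup (MulAut R)) (P : Subgroup A) : Prop :=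
  ∃ E : Subgroup R, E.Characteristic ∧ (∀ x ∈ E, x ^ p = 1) ∧ Nat.card E = p ^ 3 ∧
    Nat.card (zOf E) = p ∧ (∀ x ∈ E, ∀ y ∈ E, ⁅x, y⁆ ∈ zOf E) ∧ (∃ x ∈ E, ∃ y ∈ E, x * y ≠ y * x) ∧
    (∀ g : R, ∃ e ∈ E, ∀ x ∈ E, g * x * g⁻¹ = e * x * e⁻¹) ∧
    (∀ g ∈ A, (∀ x ∈ E, x⁻¹ * g x ∈ zOf E) → ∃ x : R, g = MulAut.conj x) ∧
    HasDiag p A P E (zOf E)

/-- **Structure of a `p`-group of rank at most 2 with a non-`p`-closed group of automorphisms without normal
`p`-subgroups outside `Inn`.** -/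
theorem structure_of_rank_two [Finite R] (hp2 : p ≠ 2) (hR : IsPGroup p R)
    (hrk : ∀ E : Subgroup R, IsElementaryAbelian p E → Nat.card E ≤ p ^ 2)
    (A : Subgroup (MulAut R)) (hInn : ∀ g : R, MulAut.conj g ∈ A)
    (hmax : ∀ N : Subgroup A, N.Normal → IsPGroup p N → ∀ g ∈ N, ∃ x : R, (g : MulAut R) = MulAut.conj x)
    (P : Sylow p A) (hP : ∃ g ∈ P, ∀ x : R, (g : MulAut R) ≠ MulAut.conj x) :
    CaseOne p A P ∨ CaseTwo p A P := by
  obtain ⟨C, H, hC, hH, hHC, hcc, hCC, hfaith⟩ :=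
    Cfsg.Agent.Classification.TypeZ.Critical.exists_critical_group hp2 hR
  -- the subgroup of inner automorphisms
  let I : Subgroup A := (MulAut.conj (G := R)).range.subgroupOf A
  have hImem : ∀ g : A, g ∈ I ↔ ∃ x : R, (g : MulAut R) = MulAut.conj x := by
    intro g
    rw [mem_subgroupOf]
    constructor
    · rintro ⟨x, hx⟩
      exact ⟨x, hx.symm⟩
    · rintro ⟨x, hx⟩
      exact ⟨x, hx.symm⟩
  have hI : IsPGroup p I := by
    have h1 : IsPGroup p (MulAut.conj (G := R)).range := by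
      rintro ⟨_, x, rfl⟩
      obtain ⟨k, hk⟩ := hR x
      refine ⟨k, Subtype.ext ?_⟩
      show (MulAut.conj x) ^ p ^ k = 1
      rw [← map_pow, hk, map_one]
    exact h1.comap_subtype
  have hIn : I.Normal := by
    refine ⟨fun g hg a => ?_⟩
    rw [hImem] at hg ⊢
    obtain ⟨x, hx⟩ := hg
    refine ⟨(a : MulAut R) x, ?_⟩
    push_cast
    rw [hx]
    apply MulEquiv.ext
    intro y
    simp [MulAut.mul_apply, MulAut.conj_apply]
  have hmaxI : ∀ N : Subgroup A, N.Normal → IsPGroup p N → N ≤ I := fun N hN hNp g hg =>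
    (hImem g).2 (hmax N hN hNp g hg)
  have hPI : ¬ (P : Subgroup A) ≤ I := by
    intro h
    obtain ⟨g, hg, hgx⟩ := hP
    obtain ⟨x, hx⟩ := (hImem g).1 (h hg)
    exact hgx x hx
  by_cases hab : ∀ x ∈ H, ∀ y ∈ H, x * y = y * x
  · left
    have hexp : ∀ x ∈ H, x ^ p = 1 := fun x hx => ((hHC x).1 hx).2
    have hHel : IsElementaryAbelian p H :=
      ⟨⟨⟨fun x y => Subtype.ext (hab x x.2 y y.2)⟩⟩, hexp⟩
    have hle := hrk H hHel
    -- the kernel on `H`
    let N : Subgroup A :=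
      { carrier := {g | ∀ x ∈ H, (g : MulAut R) x = x}
        one_mem' := fun x _ => rfl
        mul_mem' := fun {a b} ha hb x hx => by
          show (a : MulAut R) ((b : MulAut R) x) = x
          rw [hb x hx, ha x hx]
        inv_mem' := fun {a} ha x hx => by
          show (a : MulAut R)⁻¹ x = x
          rw [MulAut.inv_apply, MulEquiv.symm_apply_eq]
          exact (ha x hx).symm }
    have hNn : N.Normal := by
      refine ⟨fun g hg a x hx => ?_⟩
      show (a : MulAut R) ((g : MulAut R) ((a : MulAut R)⁻¹ x)) = x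
      rw [hg _ (char_apply_mem hH _ hx), MulAut.apply_inv_self]
    have hNp : IsPGroup p N := by
      rw [IsPGroup.iff_card]
      have h0 : Nat.card N ≠ 0 := Nat.card_pos.ne'
      refine ⟨(Nat.card N).primeFactorsList.length, Nat.eq_prime_pow_of_unique_prime_dvd h0 ?_⟩
      intro q hq hqd
      by_contra hne
      have : Fact q.Prime := ⟨hq⟩
      obtain ⟨g, hg⟩ := exists_prime_orderOf_dvd_card' q hqd
      have h1 : orderOf ((g : A) : MulAut R) = q := by
        rw [orderOf_submonoid, orderOf_submonoid, hg]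
      have h2 : ((g : A) : MulAut R) = 1 := by
        refine hfaith _ ?_ g.2
        rw [h1]
        exact (Nat.coprime_primes hq hp.out).2 hne
      rw [h2, orderOf_one] at h1
      exact hq.one_lt.ne h1
    have hppow : ∀ g ∈ P, ∃ k, (g : MulAut R) ^ p ^ k = 1 := by
      intro g hg
      obtain ⟨k, hk⟩ := P.isPGroup' ⟨g, hg⟩
      exact ⟨k, by simpa using congrArg (fun t : (P : Subgroup A) => ((t : A) : MulAut R)) hk⟩
    have hHcard : Nat.card H = p ^ 2 := by
      by_contra hne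
      have h1 : Nat.card H ≤ p := by
        obtain ⟨l, hl⟩ := IsPGroup.iff_card.1 (hR.to_subgroup H)
        rw [hl] at hle hne ⊢
        have h2 := (Nat.pow_le_pow_iff_right hp.out.one_lt).1 hle
        have h3 : l ≠ 2 := fun h => hne (by rw [h])
        calc p ^ l ≤ p ^ 1 := Nat.pow_le_pow_right hp.out.pos (by omega)
          _ = p := pow_one p
      apply hPI
      refine le_trans (fun g hg => ?_) (hmaxI N hNn hNp)
      intro x hx
      obtain ⟨k, hk⟩ := hppow g hg
      exact fix_of_card_le hR hexp h1 (fun x hx => char_apply_mem hH _ hx) hk hx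
    have hbot : (⊥ : Subgroup R).Characteristic := inferInstance
    obtain ⟨h1, h2⟩ := exists_diag_section A I hI hIn hmaxI P hPI hH hbot bot_le
      (by rw [hHcard, Subgroup.card_bot, mul_one])
      (fun x hx y hy => by
        rw [mem_bot, commutatorElement_eq_one_iff_mul_comm]
        exact hab x hx y hy)
      (fun x hx => by rw [hexp x hx]; exact one_mem _)
      (fun α _ hα hα' => hfaith α hα fun x hx => by
        have := hα' x hx
        rw [mem_bot, inv_mul_eq_one] at this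
        exact this.symm)
    have hItriv : ∀ g : A, g ∈ I ↔ ∀ x ∈ H, (g : MulAut R) x = x := by
      intro g
      rw [h1]
      refine forall₂_congr fun x _ => ?_
      rw [mem_bot, inv_mul_eq_one]
      exact eq_comm
    -- an involution inverting `H`
    obtain ⟨t, htA, htt, htH⟩ : ∃ t ∈ A, t * t = 1 ∧ ∀ x ∈ H, t x = x⁻¹ := by
      obtain ⟨u, -, v, a, haH, b, hbH, -, -, hgen, -, -, -, -, -, -, hd⟩ := h2
      obtain ⟨h, hha, hhb, -⟩ := hd (-1) (-1) (by norm_num)
      rw [mem_bot, inv_mul_eq_one, zpow_neg_one] at hha hhb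
      have hh : ∀ x ∈ H, (h : MulAut R) x = x⁻¹ := by
        intro x hx
        obtain ⟨i, j, hij⟩ := hgen x hx
        rw [mem_bot, inv_mul_eq_one] at hij
        rw [hij, map_mul, map_zpow, map_zpow, ← hha, ← hhb, mul_inv_rev, inv_zpow, inv_zpow]
        exact hab _ (inv_mem (zpow_mem haH i)) _ (inv_mem (zpow_mem hbH j))
      have hh2 : h * h ∈ I := by
        rw [hItriv]
        intro x hx
        show (h : MulAut R) ((h : MulAut R) x) = x
        rw [hh x hx, map_inv, hh x hx, inv_inv]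
      obtain ⟨k, hk⟩ := hI ⟨h * h, hh2⟩
      have hk' : ((h : MulAut R) * h) ^ p ^ k = 1 := by
        simpa using congrArg (fun t : I => ((t : A) : MulAut R)) hk
      have hodd : Odd (p ^ k) := (hp.out.odd_of_ne_two hp2).pow
      refine ⟨(h : MulAut R) ^ p ^ k, pow_mem h.2 _, ?_, fun x hx => ?_⟩
      · rw [← (Commute.refl _).mul_pow, hk']
      · have key : ∀ n : ℕ, ∀ x ∈ H, ((h : MulAut R) ^ (2 * n)) x = x := by
          intro n
          induction n with
          | zero => intro x _; simp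
          | succ n ih =>
            intro x hx
            have e1 : 2 * (n + 1) = 2 * n + 2 := by ring
            rw [e1, pow_add, MulAut.mul_apply, pow_two, MulAut.mul_apply, hh x hx, map_inv, hh x hx,
              inv_inv, ih x hx]
        obtain ⟨m, hm⟩ := hodd
        rw [hm, pow_succ', MulAut.mul_apply, key m x hx, hh x hx]
    -- `t` is fixed-point-free on the whole group
    have hfpf : ∀ x, t x = x → x = 1 := by
      intro x hx
      by_contra hx1
      obtain ⟨k, hk⟩ := IsPGroup.iff_orderOf.1 hR x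
      have hk0 : k ≠ 0 := by
        rintro rfl
        rw [pow_zero, orderOf_eq_one_iff] at hk
        exact hx1 hk
      obtain ⟨l, rfl⟩ := Nat.exists_eq_succ_of_ne_zero hk0
      set y := x ^ p ^ l with hy
      have hyp : y ^ p = 1 := by
        rw [hy, ← pow_mul, ← pow_succ, ← hk, pow_orderOf_eq_one]
      have hy1 : y ≠ 1 := by
        intro h
        have h3 := orderOf_dvd_of_pow_eq_one h
        rw [hk] at h3
        have h4 := Nat.le_of_dvd (pow_pos hp.out.pos l) h3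
        exact absurd h4 (not_le.2 (Nat.pow_lt_pow_right hp.out.one_lt (Nat.lt_succ_self l)))
      have hty : t y = y := by rw [hy, map_pow, hx]
      have hyH : y ∈ H := by
        refine mem_of_comm hrk hHel hHcard hyp fun a ha => ?_
        have h3 := (hItriv ⟨MulAut.conj y, hInn y⟩).1 ((hImem _).2 ⟨y, rfl⟩) a ha
        have h4 : y * a * y⁻¹ = a := h3
        calc a * y = y * a * y⁻¹ * y := by rw [h4]
          _ = y * a := by group
      have h5 := htH y hyH
      rw [hty] at h5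
      have h6 : y ^ 2 = 1 := by
        rw [pow_two]
        nth_rewrite 1 [h5]
        exact inv_mul_cancel y
      have h7 : orderOf y ∣ Nat.gcd 2 p := Nat.dvd_gcd (orderOf_dvd_of_pow_eq_one h6)
        (orderOf_dvd_of_pow_eq_one hyp)
      have h8 : Nat.gcd 2 p = 1 := (Nat.coprime_primes Nat.prime_two hp.out).2 (Ne.symm hp2)
      rw [h8, Nat.dvd_one, orderOf_eq_one_iff] at h7
      exact hy1 h7
    have htinv := inv_of_fpf htt hfpf
    have hcommR : ∀ x y : R, x * y = y * x := by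
      intro x y
      have h3 : t (x⁻¹ * y⁻¹) = t x⁻¹ * t y⁻¹ := map_mul t _ _
      rw [htinv, htinv, htinv, mul_inv_rev, inv_inv, inv_inv] at h3
      exact h3.symm
    have hCtop : ∀ x, x ∈ C := by
      intro x
      apply hCC
      rw [mem_centralizer_iff]
      intro y _
      exact hcommR y x
    refine ⟨H, fun x => ⟨fun hx => hexp x hx, fun hx => (hHC x).2 ⟨hCtop x, hx⟩⟩, hH, hHcard, hcommR,
      ⟨t, htA, htinv⟩, fun g hg hgx => ?_, h2⟩
    obtain ⟨x, hx⟩ := (hImem ⟨g, hg⟩).1 ((hItriv _).2 hgx)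
    have hx' : g = MulAut.conj x := hx
    rw [hx']
    apply MulEquiv.ext
    intro y
    rw [MulAut.conj_apply, hcommR x y, mul_inv_cancel_right, MulAut.one_apply]
  · right
    push Not at hab
    have hcl : ∀ x ∈ H, ∀ y ∈ H, ⁅x, y⁆ ∈ zOf H := by
      intro x hx y hy
      rw [mem_zOf]
      refine ⟨?_, fun z hz => ?_⟩
      · rw [commutatorElement_def]
        exact mul_mem (mul_mem (mul_mem hx hy) (inv_mem hx)) (inv_mem hy)
      · exact (hcc x ((hHC x).1 hx).1 y z ((hHC z).1 hz).1).eq.symm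
    have hexp : ∀ x ∈ H, x ^ p = 1 := fun x hx => ((hHC x).1 hx).2
    obtain ⟨hZ, hHc⟩ := card_of_class_two hR hrk hexp hcl hab
    obtain ⟨h1, h2⟩ := exists_diag_section A I hI hIn hmaxI P hPI hH (zOf_char hH) (zOf_le H)
      (by rw [hZ, hHc]; ring) hcl (fun x hx => by rw [hexp x hx]; exact one_mem _)
      (fun α _ hα hα' => by
        refine hfaith α hα fun x hx => ?_
        refine Cfsg.Agent.Classification.TypeZ.Critical.fix_of_fix_div hR α hα x ?_
        exact fix_center hZ hcl hab hα' (hα' x hx))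
    refine ⟨H, hH, hexp, hHc, hZ, hcl, hab, fun g => ?_,
      fun g hg hgx => (hImem ⟨g, hg⟩).1 ((h1 ⟨g, hg⟩).2 hgx), h2⟩
    have h3 := (h1 ⟨MulAut.conj g, hInn g⟩).1 ((hImem _).2 ⟨g, rfl⟩)
    exact exists_inner hR hZ hHc hcl hab (α := MulAut.conj g) h3

end Cfsg.Agent.H791
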