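import Cfsg.Agent.H791.HnnModel
import Cfsg.Agent.H802.FusBasic

/-!
# The HNN model of a fusion system over the regular representation (helper791)
-/

set_option autoImplicit false

namespace Cfsg.Agent.H791

open Subgroup Cfsg Cfsg.FusionSystem
open Cfsg.Agent.H802

/-- the right regular representation -/
def reg (S : Type*) [Group S] : S →* Equiv.Perm S where
  toFun s := Equiv.mulRight s⁻¹
  map_one' := by ext; simp
  map_mul' s t := by ext x; simp [mul_assoc]

theorem reg_apply {S : Type*} [Group S] (s x : S) : reg S s x = x * s⁻¹ := rfl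

theorem reg_injective (S : Type*) [Group S] : Function.Injective (reg S) := by
  intro s t h
  have h1 := congrArg (fun f : Equiv.Perm S => f 1) h
  simpa [reg_apply] using h1

theorem transversal_bijective {S T : Type*} [Group S] (P Q : Subgroup S) (β : T ≃ S ⧸ Q)
    (ψ : P ≃ Q) : Function.Bijective (fun x : T × P => (β x.1).out * (ψ x.2 : S)) := by
  constructor
  · rintro ⟨a, p⟩ ⟨b, q⟩ h
    simp only at h
    have h1 : β a = β b := by
      have h2 := congrArg (QuotientGroup.mk (s := Q)) h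
      rw [QuotientGroup.mk_mul_of_mem _ (ψ p).2, QuotientGroup.mk_mul_of_mem _ (ψ q).2] at h2
      rw [← Quotient.out_eq' (β a), ← Quotient.out_eq' (β b)]
      exact h2
    have h3 : a = b := β.injective h1
    subst h3
    have h4 : ψ p = ψ q := Subtype.ext (mul_left_cancel h)
    rw [ψ.injective h4]
  · intro s
    have h1 : (s : S ⧸ Q).out⁻¹ * s ∈ Q := by
      rw [← QuotientGroup.eq]
      exact Quotient.out_eq' _
    refine ⟨⟨β.symm (s : S ⧸ Q), ψ.symm ⟨_, h1⟩⟩, ?_⟩
    simp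

/-- an injective homomorphism from a subgroup is a conjugation in the symmetric group -/
theorem exists_perm_conj {S : Type*} [Group S] [Finite S] (P : Subgroup S) (φ : P →* S)
    (hφ : Function.Injective φ) : ∃ σ : Equiv.Perm S, ∀ p : P, σ * reg S p * σ⁻¹ = reg S (φ p) := by
  have hc : Nat.card φ.range = Nat.card P :=
    (Nat.card_congr (MonoidHom.ofInjective hφ).toEquiv).symm
  have hi : Nat.card (S ⧸ P) = Nat.card (S ⧸ φ.range) := by
    have h1 := P.index_mul_card
    have h2 := φ.range.index_mul_card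
    rw [hc, ← h1] at h2
    have h3 : 0 < Nat.card P := Nat.card_pos
    exact (Nat.eq_of_mul_eq_mul_right h3 h2).symm
  obtain ⟨β⟩ : Nonempty ((S ⧸ P) ≃ (S ⧸ φ.range)) := Finite.card_eq.1 hi
  let f1 := Equiv.ofBijective _ (transversal_bijective P P (Equiv.refl _) (Equiv.refl P))
  let f2 := Equiv.ofBijective _ (transversal_bijective P φ.range β (MonoidHom.ofInjective hφ).toEquiv)
  have key : ∀ (p : P) (x : S), (f1.symm.trans f2) (x * (p : S)⁻¹) = (f1.symm.trans f2) x * (φ p)⁻¹ := by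
    intro p x
    obtain ⟨⟨a, q⟩, rfl⟩ := f1.surjective x
    have h1 : f1 (a, q) * (p : S)⁻¹ = f1 (a, q * p⁻¹) := by
      show a.out * (q : S) * (p : S)⁻¹ = a.out * ((q * p⁻¹ : P) : S)
      rw [Subgroup.coe_mul, Subgroup.coe_inv, mul_assoc]
    rw [h1, Equiv.trans_apply, Equiv.trans_apply, Equiv.symm_apply_apply, Equiv.symm_apply_apply]
    show (β a).out * φ (q * p⁻¹) = (β a).out * φ q * (φ p)⁻¹
    rw [map_mul, map_inv, mul_assoc]
  refine ⟨f1.symm.trans f2, fun p => ?_⟩
  rw [mul_inv_eq_iff_eq_mul]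
  ext x
  exact key p x

variable {Ω : Type*} [Group Ω] {S : Subgroup Ω}

/-- a map of the system as a map of subgroups of the group `S` -/
def toS (F : FusionSystem S) (i : Σ P : Subgroup Ω, F.Hom P) : i.1.subgroupOf S →* S :=
  ((i.2 : i.1 →* Ω).codRestrict S (F.le_of_mem i.2.2).2).comp
    (subgroupOfEquivOfLe (F.le_of_mem i.2.2).1).toMonoidHom

theorem toS_apply (F : FusionSystem S) (i : Σ P : Subgroup Ω, F.Hom P) {x : S} (hx : (x : Ω) ∈ i.1) :
    ((toS F i ⟨x, hx⟩ : S) : Ω) = (i.2 : i.1 →* Ω) ⟨x, hx⟩ := rfl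

theorem toS_injective (F : FusionSystem S) (i : Σ P : Subgroup Ω, F.Hom P) :
    Function.Injective (toS F i) := by
  intro a b h
  have h1 : (i.2 : i.1 →* Ω) ⟨a, a.2⟩ = (i.2 : i.1 →* Ω) ⟨b, b.2⟩ := congrArg Subtype.val h
  have h2 := F.injective_of_mem i.2.2 h1
  apply Subtype.ext
  apply Subtype.ext
  exact congrArg (fun z : i.1 => (z : Ω)) h2

/-- the conjugating permutations -/
noncomputable def sig [Finite S] (F : FusionSystem S) (i : Σ P : Subgroup Ω, F.Hom P) : Equiv.Perm S :=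
  (exists_perm_conj _ _ (toS_injective F i)).choose

theorem sig_spec [Finite S] (F : FusionSystem S) (i : Σ P : Subgroup Ω, F.Hom P)
    (p : i.1.subgroupOf S) : sig F i * reg S p * (sig F i)⁻¹ = reg S (toS F i p) :=
  (exists_perm_conj _ _ (toS_injective F i)).choose_spec p

/-- the data -/
noncomputable def hnn [Finite S] (F : FusionSystem S) :
    Hnn.Data (Equiv.Perm S) (Σ P : Subgroup Ω, F.Hom P) where
  S := (reg S).range
  A i := (i.1.subgroupOf S).map (reg S)
  B i := (toS F i).range.map (reg S)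
  σ i := sig F i
  hA i := by
    rintro _ ⟨x, -, rfl⟩
    exact ⟨x, rfl⟩
  hB i := by
    rintro _ ⟨x, -, rfl⟩
    exact ⟨x, rfl⟩
  hσ i x := by
    constructor
    · rintro ⟨p, hp, rfl⟩
      exact ⟨toS F i ⟨p, hp⟩, ⟨_, rfl⟩, (sig_spec F i ⟨p, hp⟩).symm⟩
    · rintro ⟨_, ⟨p, rfl⟩, hp⟩
      rw [← sig_spec] at hp
      exact ⟨p, p.2, mul_left_cancel (mul_right_cancel hp)⟩

open SemidirectProduct Hnn Hnn.Data in
/-- **Conjugations in the model belong to the system.** -/
theorem mem_of_red [Finite S] (F : FusionSystem S)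
    {g : FreeAct.E (hnn F).X (Equiv.Perm S)} {n : ℕ} (h : (hnn F).Red g n) :
    ∀ (P : Subgroup Ω) (hP : P ≤ S) (φ : P →* Ω) (hφ : ∀ x, φ x ∈ S),
      (∀ x : P, inr (reg S ⟨φ x, hφ x⟩) * g = g * inr (reg S ⟨x, hP x.2⟩)) → φ ∈ F.Hom P := by
  induction h with
  | @base w hw =>
    intro P hP φ hφ h1
    obtain ⟨s, rfl⟩ := hw
    refine mem_of_apply_eq (F.conj_mem hP s.2) fun x => ?_
    have h2 := h1 x
    rw [← map_mul, ← map_mul, ← map_mul, ← map_mul] at h2
    have h3 := reg_injective S (inr_injective h2)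
    have h4 : φ x * (s : Ω) = s * x := congrArg Subtype.val h3
    show φ x = s * x * (s : Ω)⁻¹
    rw [← h4, mul_inv_cancel_right]
  | @step w i b g n hw hg hF ih =>
    intro P hP φ hφ h1
    obtain ⟨s, rfl⟩ := hw
    have h2 := fun x => step_conj hF (h1 x)
    -- the homomorphism `P → W`
    obtain ⟨c, hc⟩ : ∃ c : Equiv.Perm S, ∀ y, (hnn F).dval i b y = c * y * c⁻¹ := by
      cases b
      · exact ⟨(hnn F).σ i, fun y => rfl⟩
      · exact ⟨((hnn F).σ i)⁻¹, fun y => by rw [inv_inv]; rfl⟩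
    let d : P →* Equiv.Perm S := (MulAut.conj (c * (reg S s)⁻¹)).toMonoidHom.comp
      ((reg S).comp (φ.codRestrict S hφ))
    have hd : ∀ x : P, d x = (hnn F).dval i b ((reg S s)⁻¹ * reg S ⟨φ x, hφ x⟩ * reg S s) := by
      intro x
      rw [hc]
      show (c * (reg S s)⁻¹) * reg S ⟨φ x, hφ x⟩ * (c * (reg S s)⁻¹)⁻¹ = _
      group
    have hdr : ∀ x : P, d x ∈ (reg S).range := by
      intro x
      rw [hd]
      exact dom_le _ _ (dval_mem (h2 x).1)
    let φ' : P →* Ω := S.subtype.comp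
      ((MonoidHom.ofInjective (reg_injective S)).symm.toMonoidHom.comp (d.codRestrict _ hdr))
    have hφ' : ∀ x, φ' x ∈ S := fun x => ((MonoidHom.ofInjective (reg_injective S)).symm
      (d.codRestrict _ hdr x)).2
    have hφ'd : ∀ x, reg S ⟨φ' x, hφ' x⟩ = d x := by
      intro x
      have h3 : (⟨φ' x, hφ' x⟩ : S) = (MonoidHom.ofInjective (reg_injective S)).symm
        (d.codRestrict _ hdr x) := rfl
      rw [h3]
      have h4 : ∀ z : (reg S).range, reg S ((MonoidHom.ofInjective (reg_injective S)).symm z) = z := by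
        intro z
        exact congrArg Subtype.val ((MonoidHom.ofInjective (reg_injective S)).apply_symm_apply z)
      rw [h4]
      rfl
    have hmem : φ' ∈ F.Hom P := by
      refine ih P hP φ' hφ' fun x => ?_
      rw [hφ'd, hd]
      exact (h2 x).2
    cases b with
    | true =>
      -- `φ = c_s ∘ φ_i ∘ φ'`
      have h5 : ∀ x : P, ∃ hx : φ' x ∈ i.1, φ x = s * (i.2 : i.1 →* Ω) ⟨φ' x, hx⟩ * (s : Ω)⁻¹ := by
        intro x
        have h6 := dval_mem (h2 x).1
        rw [← hd, ← hφ'd] at h6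
        obtain ⟨p, hp, hpe⟩ := h6
        have h7 : p = ⟨φ' x, hφ' x⟩ := reg_injective S hpe
        subst h7
        refine ⟨hp, ?_⟩
        have h8 := sig_spec F i ⟨⟨φ' x, hφ' x⟩, hp⟩
        have h9 : sig F i * reg S ⟨φ' x, hφ' x⟩ * (sig F i)⁻¹ =
            (reg S s)⁻¹ * reg S ⟨φ x, hφ x⟩ * reg S s := by
          rw [hφ'd, hd]
          show sig F i * ((sig F i)⁻¹ * ((reg S s)⁻¹ * reg S ⟨φ x, hφ x⟩ * reg S s) * sig F i) *
            (sig F i)⁻¹ = _
          group
        rw [h9, ← map_inv, ← map_mul, ← map_mul] at h8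
        have h10 : (s : Ω)⁻¹ * φ x * s = (i.2 : i.1 →* Ω) ⟨φ' x, hp⟩ :=
          congrArg Subtype.val (reg_injective S h8)
        rw [← h10]
        group
      obtain ⟨χ, hχ, hχe⟩ := exists_comp hmem i.2.2 (fun x => (h5 x).1)
      have hrS : χ.range ≤ S := by
        rintro _ ⟨x, rfl⟩
        exact (F.le_of_mem hχ).2 x
      obtain ⟨χ', hχ', hχe'⟩ := exists_comp hχ (F.conj_mem hrS s.2) (fun x => ⟨x, rfl⟩)
      refine mem_of_apply_eq hχ' fun x => ?_
      obtain ⟨hx, he⟩ := h5 x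
      rw [hχe', he]
      show _ = s * χ x * (s : Ω)⁻¹
      rw [hχe]
    | false =>
      obtain ⟨ψ, hψ, hψe⟩ := F.inv_mem i.2.2
      have h5 : ∀ x : P, ∃ hx : φ' x ∈ (i.2 : i.1 →* Ω).range,
          φ x = s * ψ ⟨φ' x, hx⟩ * (s : Ω)⁻¹ := by
        intro x
        obtain ⟨p, hp, hpe⟩ := (h2 x).1
        have h8 := sig_spec F i ⟨p, hp⟩
        have h9 : reg S ⟨φ' x, hφ' x⟩ = sig F i * reg S p * (sig F i)⁻¹ := by
          rw [hφ'd, hd, hpe]
          rfl
        rw [← h9] at h8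
        have h10 : φ' x = (i.2 : i.1 →* Ω) ⟨p, hp⟩ := congrArg Subtype.val (reg_injective S h8)
        refine ⟨⟨⟨p, hp⟩, h10.symm⟩, ?_⟩
        have h11 : ψ ⟨φ' x, ⟨⟨p, hp⟩, h10.symm⟩⟩ = p :=
          (congrArg ψ (Subtype.ext h10)).trans (hψe ⟨p, hp⟩)
        rw [h11]
        rw [← map_inv, ← map_mul, ← map_mul] at hpe
        have h12 : (p : Ω) = (s : Ω)⁻¹ * φ x * s := congrArg Subtype.val (reg_injective S hpe)
        rw [h12]
        group
      obtain ⟨χ, hχ, hχe⟩ := exists_comp hmem hψ (fun x => (h5 x).1)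
      have hrS : χ.range ≤ S := by
        rintro _ ⟨x, rfl⟩
        exact (F.le_of_mem hχ).2 x
      obtain ⟨χ', hχ', hχe'⟩ := exists_comp hχ (F.conj_mem hrS s.2) (fun x => ⟨x, rfl⟩)
      refine mem_of_apply_eq hχ' fun x => ?_
      obtain ⟨hx, he⟩ := h5 x
      rw [hχe', he]
      show _ = s * χ x * (s : Ω)⁻¹
      rw [hχe]

end Cfsg.Agent.H791
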