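import Cfsg.Agent.H791.Bad

/-!
# `p`-groups of rank 2 are resistant for `p ≥ 5`, except the extraspecial one (helper791)
-/

set_option autoImplicit false

namespace Cfsg.Agent.H791

open Subgroup Cfsg Cfsg.FusionSystem
open Cfsg.Agent.H802
open scoped commutatorElement

variable {p : ℕ} [hp : Fact p.Prime]

/-- a group of order `p ^ 3` has class at most 2 -/
theorem comm_mem_center {G : Type*} [Group G] (hG : Nat.card G = p ^ 3) (x y : G) :
    ⁅x, y⁆ ∈ center G := by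
  have hfin : Finite G := Nat.finite_of_card_ne_zero (by rw [hG]; exact pow_ne_zero _ hp.out.ne_zero)
  have hGp : IsPGroup p G := IsPGroup.of_card hG
  obtain ⟨k, hk0, hk⟩ := IsPGroup.card_center_eq_prime_pow hG (by norm_num)
  have h1 := card_eq_card_quotient_mul_card_subgroup (center G)
  rw [hG, hk] at h1
  obtain ⟨l, hl⟩ := IsPGroup.iff_card.1 (hGp.to_quotient (center G))
  rw [hl, ← pow_add] at h1
  have h2 : 3 = l + k := Nat.pow_right_injective hp.out.two_le h1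
  have hcomm : ∀ a b : G ⧸ center G, a * b = b * a := by
    have h3 : l = 0 ∨ l = 1 ∨ l = 2 := by omega
    rcases h3 with rfl | rfl | rfl
    · rw [pow_zero] at hl
      have := (Nat.card_eq_one_iff_unique.1 hl).1
      intro a b
      exact Subsingleton.elim _ _
    · rw [pow_one] at hl
      have hcyc : IsCyclic (G ⧸ center G) := isCyclic_of_prime_card hl
      intro a b
      obtain ⟨g, hg⟩ := hcyc.exists_generator
      obtain ⟨i, rfl⟩ := mem_zpowers_iff.1 (hg a)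
      obtain ⟨j, rfl⟩ := mem_zpowers_iff.1 (hg b)
      rw [← zpow_add, ← zpow_add, add_comm]
    · have := IsPGroup.isMulCommutative_of_card_eq_prime_sq hl
      exact fun a b => mul_comm' a b
  have h4 : (QuotientGroup.mk' (center G)) ⁅x, y⁆ = 1 := by
    rw [map_commutatorElement]
    exact commutatorElement_eq_one_iff_mul_comm.2 (hcomm _ _)
  exact (QuotientGroup.eq_one_iff _).1 h4

/-- a normal subgroup of order `p` of a `p`-group is central -/
theorem central_of_card_prime {N : Type*} [Group N] [Finite N] (hN : IsPGroup p N) {Z : Subgroup N}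
    (hZ : Z.Normal) (hZc : Nat.card Z = p) {z : N} (hz : z ∈ Z) (y : N) : z * y = y * z := by
  have h1 : ¬ Z ≤ ⊥ := by
    intro h
    rw [le_bot_iff.1 h, card_bot] at hZc
    exact hp.out.one_lt.ne hZc
  obtain ⟨w, hwZ, hw1, hw⟩ := exists_central_mod hN hZ (inferInstance : (⊥ : Subgroup N).Normal) h1
  rw [mem_bot] at hw1
  obtain ⟨i, rfl⟩ := exists_zpow_of_card_prime hZc hwZ hw1 hz
  have h2 := hw y
  rw [mem_bot, commutatorElement_eq_one_iff_mul_comm] at h2
  exact (show Commute y w from h2).symm.zpow_left i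

variable {Ω : Type*} [Group Ω] {S : Subgroup Ω}

theorem no_bad [Finite S] (hp5 : 5 ≤ p) (hS : IsPGroup p S)
    {F : FusionSystem S} (hF : F.IsSaturated p)
    (hrk : ∀ E : Subgroup Ω, E ≤ S → IsElementaryAbelian p E → Nat.card E ≤ p ^ 2)
    (hnotE : ¬ (Nat.card S = p ^ 3 ∧ Monoid.exponent ↥S = p))
    {Q : Subgroup Ω} (hQ : F.IsFullyNormalized Q) (hc : F.IsCentric Q) (hne : Q ≠ S)
    (hno : NoNormal p F Q) : False := by
  have hp2 : p ≠ 2 := by omega
  obtain ⟨P, hP, hQc, hQp, hQcomm, hdiag⟩ := bad_elementary hp5 hS hF hrk hQ hc hne hno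
  obtain ⟨u, huP, v, a, -, b, -, ha1, hba, hgen, -, -, -, -, -, hPab, hd⟩ := hdiag
  have hfin : Finite Q := finite_of_le hQ.1
  have hfinN : Finite (normalizerIn S Q) := finite_of_le inf_le_left
  rw [mem_bot] at ha1
  rw [sup_bot_eq] at hba
  have hmemP : ∀ g : F.autGroup Q, g ∈ (P : Subgroup (F.autGroup Q)) ↔
      (g : MulAut Q) ∈ autInducedBy S Q := by
    intro g
    rw [hP, mem_subgroupOf]
  set N := normalizerIn S Q with hNdef
  have hQN : Q ≤ N := le_normalizerIn hQ.1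
  have hNS : N ≤ S := inf_le_left
  -- the action of `N` on `Q`
  have f1 : ∀ y ∈ N, y * (a : Ω) * y⁻¹ = a ∧ ∃ i : ℤ, y * (b : Ω) * y⁻¹ = (a : Ω) ^ i * b := by
    intro y hy
    obtain ⟨α, hα⟩ := exists_conjAut hy.2
    have hαS : α ∈ autInducedBy S Q := (mem_autInducedBy_iff S Q α).2 ⟨y, hy.1, hα⟩
    obtain ⟨h1, i, h2⟩ := hPab ⟨α, autInducedBy_le_autGroup F hQ.1 hαS⟩ ((hmemP _).2 hαS)
    rw [mem_bot, inv_mul_eq_one] at h1 h2
    refine ⟨?_, i, ?_⟩
    · rw [← hα, ← h1]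
    · rw [← hα, ← h2]
      rfl
  have f2 : ∀ x : Q, ∃ i j : ℤ, x = a ^ i * b ^ j := by
    intro x
    obtain ⟨i, j, hij⟩ := hgen x (mem_top x)
    rw [mem_bot, inv_mul_eq_one] at hij
    exact ⟨i, j, hij⟩
  have f3 : ∀ t ∈ S, t * (a : Ω) = a * t → t * (b : Ω) = b * t → t ∈ Q := by
    intro t ht h1 h2
    refine hc.2 Q (isConj_refl F hQ.1) ⟨ht, mem_centralizer_iff.2 fun z hz => ?_⟩
    obtain ⟨i, j, hij⟩ := f2 ⟨z, hz⟩
    have h3 : z = (a : Ω) ^ i * (b : Ω) ^ j := congrArg Subtype.val hij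
    rw [h3]
    exact (((show Commute t a from h1).zpow_right i).mul_right
      ((show Commute t b from h2).zpow_right j)).symm
  -- the order of `N`
  have hNp : IsPGroup p N := hS.to_le hNS
  have hcaS : ∀ y ∈ N, Commute y (a : Ω) := by
    intro y hy
    have := (f1 y hy).1
    exact mul_inv_eq_iff_eq_mul.1 this
  have hNc : Nat.card N = p ^ 3 := by
    have h1 : ∀ y : N, (y : Ω) * b * (y : Ω)⁻¹ * (b : Ω)⁻¹ ∈ zpowers (a : Ω) := by
      intro y
      obtain ⟨i, hi⟩ := (f1 y y.2).2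
      rw [hi, mul_inv_cancel_right]
      exact ⟨i, rfl⟩
    let f : N →* zpowers (a : Ω) :=
      { toFun := fun y => ⟨(y : Ω) * b * (y : Ω)⁻¹ * (b : Ω)⁻¹, h1 y⟩
        map_one' := Subtype.ext (by simp)
        map_mul' := fun y z => Subtype.ext (by
          show ((y : Ω) * z) * b * ((y : Ω) * z)⁻¹ * (b : Ω)⁻¹ = ((y : Ω) * b * (y : Ω)⁻¹ * (b : Ω)⁻¹) *
            ((z : Ω) * b * (z : Ω)⁻¹ * (b : Ω)⁻¹)
          obtain ⟨i, hi⟩ := (f1 y y.2).2
          obtain ⟨j, hj⟩ := (f1 z z.2).2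
          have e1 : ((y : Ω) * z) * b * ((y : Ω) * z)⁻¹ = y * (z * b * (z : Ω)⁻¹) * (y : Ω)⁻¹ := by
            group
          have e2 : (y : Ω) * (a : Ω) ^ j = (a : Ω) ^ j * y := (hcaS y y.2).zpow_right j
          rw [e1, hj, hi]
          calc (y : Ω) * ((a : Ω) ^ j * b) * (y : Ω)⁻¹ * (b : Ω)⁻¹
              = ((y : Ω) * (a : Ω) ^ j) * b * (y : Ω)⁻¹ * (b : Ω)⁻¹ := by group
            _ = (a : Ω) ^ j * (y * b * (y : Ω)⁻¹) * (b : Ω)⁻¹ := by rw [e2]; group
            _ = (a : Ω) ^ j * ((a : Ω) ^ i * b) * (b : Ω)⁻¹ := by rw [hi]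
            _ = (a : Ω) ^ i * (b : Ω) * (b : Ω)⁻¹ * ((a : Ω) ^ j * b * (b : Ω)⁻¹) := by
              rw [mul_inv_cancel_right, mul_inv_cancel_right, ← mul_assoc, mul_inv_cancel_right,
                ← zpow_add, ← zpow_add, add_comm]) }
    have hker : Nat.card f.ker ≤ p ^ 2 := by
      rw [← hQc]
      refine Nat.card_le_card_of_injective (fun y : f.ker => (⟨((y : N) : Ω), ?_⟩ : Q)) ?_
      · have h2 : f (y : N) = 1 := y.2
        have h3 : ((y : N) : Ω) * b * ((y : N) : Ω)⁻¹ * (b : Ω)⁻¹ = 1 := congrArg Subtype.val h2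
        refine f3 _ (hNS (y : N).2) (hcaS _ (y : N).2).eq ?_
        exact mul_inv_eq_iff_eq_mul.1 (mul_inv_eq_one.1 h3)
      · intro y z hyz
        have := congrArg Subtype.val hyz
        exact Subtype.ext (Subtype.ext this)
    have hap : Nat.card (zpowers (a : Ω)) = p := by
      rw [Nat.card_zpowers]
      refine orderOf_eq_prime ?_ ?_
      · exact congrArg Subtype.val (hQp a)
      · intro h
        exact ha1 (Subtype.ext h)
    have hrange : Nat.card f.range ≤ p := by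
      have hfin' : Finite (zpowers (a : Ω)) :=
        Nat.finite_of_card_ne_zero (by rw [hap]; exact hp.out.ne_zero)
      rw [← hap]
      exact card_le_card_group f.range
    have hcard : Nat.card N ≤ p ^ 3 := by
      have h1 : Nat.card N = Nat.card f.ker * Nat.card f.range := by
        rw [card_eq_card_quotient_mul_card_subgroup f.ker, mul_comm]
        congr 1
        exact Nat.card_congr (QuotientGroup.quotientKerEquivRange f).toEquiv
      rw [h1]
      calc Nat.card f.ker * Nat.card f.range ≤ p ^ 2 * p := Nat.mul_le_mul hker hrange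
        _ = p ^ 3 := by ring
    have hlt := card_lt_card_normalizerIn hS hQ.1 hne
    obtain ⟨l, hl⟩ := IsPGroup.iff_card.1 hNp
    rw [← hNdef, hQc, hl] at hlt
    rw [hl] at hcard ⊢
    have h3 : l ≤ 3 := (Nat.pow_le_pow_iff_right hp.out.one_lt).1 hcard
    have h4 : 2 < l := (Nat.pow_lt_pow_iff_right hp.out.one_lt).1 hlt
    have h5 : l = 3 := by omega
    rw [h5]
  -- extension of elements of `Aut_F(Q)` normalizing `Aut_S(Q)`
  have hext : ∀ h : F.autGroup Q, (∀ g ∈ P, h * g * h⁻¹ ∈ P) →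
      ∃ α ∈ F.autGroup N, ∀ x : Q, ((α ⟨x, hQN x.2⟩ : N) : Ω) = ((h : MulAut Q) x : Q) := by
    intro h hh
    obtain ⟨ψ, hψ, hψe⟩ := exists_extension_of_normalizes
      (isReceptive_of_isFullyNormalized hS hF hQ) h.2 (fun δ hδ => by
        have h1 := hh ⟨δ, autInducedBy_le_autGroup F hQ.1 hδ⟩ ((hmemP _).2 hδ)
        exact (hmemP _).1 h1)
    have h1 : ∀ y : normalizerIn S Q, ψ y ∈ normalizerIn S Q := by
      refine apply_mem_normalizerIn (P := Q)
        (φ := Q.subtype.comp (h : MulAut Q).toMonoidHom) hψ (le_normalizerIn hQ.1) inf_le_right ?_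
        (fun x hx => hψe x hx _)
      exact range_eq_of_mapsTo ((mem_autGroup_iff F hQ.1 _).1 h.2) (fun x => ((h : MulAut Q) x).2)
    obtain ⟨α, hαF, hα⟩ := exists_aut hψ (range_eq_of_mapsTo hψ h1)
    exact ⟨α, hαF, fun x => by rw [hα]; exact hψe x x.2 _⟩
  -- the exponent of `N`
  have hNexp : ∀ y ∈ N, y ^ p = 1 := by
    intro y hy
    obtain ⟨h, hha, hhb, hhP⟩ := hd (-1) (-1) (by norm_num)
    rw [mem_bot, inv_mul_eq_one, zpow_neg_one] at hha hhb
    obtain ⟨α, -, hα⟩ := hext h hhP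
    have hinv : ∀ x : Q, (h : MulAut Q) x = x⁻¹ := by
      intro x
      obtain ⟨i, j, rfl⟩ := f2 x
      rw [map_mul, map_zpow, map_zpow, ← hha, ← hhb, mul_inv_rev, inv_zpow, inv_zpow]
      exact hQcomm _ _
    have hαQ : ∀ (x : Ω) (hx : x ∈ Q), ((α ⟨x, hQN hx⟩ : N) : Ω) = x⁻¹ := by
      intro x hx
      rw [hα ⟨x, hx⟩, hinv]
      rfl
    set y' : N := ⟨y, hy⟩ with hy'
    obtain ⟨i, hi⟩ := (f1 y hy).2
    -- `α y` acts on `Q` as `y`
    have h1 : ((α y' : N) : Ω) * (b : Ω)⁻¹ * ((α y' : N) : Ω)⁻¹ = ((a : Ω) ^ i * b)⁻¹ := by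
      have e1 : ((α (y' * ⟨b, hQN b.2⟩ * y'⁻¹) : N) : Ω) =
          ((α y' : N) : Ω) * (b : Ω)⁻¹ * ((α y' : N) : Ω)⁻¹ := by
        rw [map_mul, map_mul, map_inv]
        push_cast
        rw [hαQ b b.2]
      have e2 : (y' * ⟨b, hQN b.2⟩ * y'⁻¹ : N) = ⟨(a : Ω) ^ i * b, hQN (a ^ i * b : Q).2⟩ :=
        Subtype.ext hi
      rw [← e1, e2]
      exact hαQ _ (a ^ i * b : Q).2
    have h2 : ((α y' : N) : Ω) * (b : Ω) * ((α y' : N) : Ω)⁻¹ = y * b * y⁻¹ := by
      rw [hi]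
      have := congrArg (fun t => t⁻¹) h1
      simp only [mul_inv_rev, inv_inv] at this
      rw [← mul_assoc] at this
      rw [this]
    have h3 : ((α y' : N) : Ω) * y⁻¹ ∈ Q := by
      refine f3 _ (hNS (N.mul_mem (α y').2 (N.inv_mem hy))) ?_ ?_
      · exact ((hcaS _ (α y').2).mul_left (hcaS y hy).inv_left).eq
      · have e3 : y⁻¹ * (((α y' : N) : Ω) * b * ((α y' : N) : Ω)⁻¹) * y = b := by
          rw [h2]
          group
        -- conjugating by `(α y) y⁻¹`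
        have e4 : ((α y' : N) : Ω)⁻¹ * (y * b * y⁻¹) * (α y' : N) = b := by
          rw [← h2]
          group
        calc ((α y' : N) : Ω) * y⁻¹ * b
            = ((α y' : N) : Ω) * (y⁻¹ * b * y) * y⁻¹ := by group
          _ = b * (((α y' : N) : Ω) * y⁻¹) := by
            -- use the inverse automorphism relation
            have e5 : ((α y' : N) : Ω) * (y⁻¹ * b * y) * ((α y' : N) : Ω)⁻¹ = b := by
              obtain ⟨j, hj⟩ := (f1 y⁻¹ (N.inv_mem hy)).2
              rw [inv_inv] at hj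
              rw [hj]
              have e6 : ((α y' : N) : Ω) * ((a : Ω) ^ j * b) * ((α y' : N) : Ω)⁻¹ =
                  (a : Ω) ^ j * (((α y' : N) : Ω) * b * ((α y' : N) : Ω)⁻¹) := by
                have e7 : ((α y' : N) : Ω) * (a : Ω) ^ j = (a : Ω) ^ j * (α y' : N) :=
                  (hcaS _ (α y').2).zpow_right j
                calc ((α y' : N) : Ω) * ((a : Ω) ^ j * b) * ((α y' : N) : Ω)⁻¹
                    = (((α y' : N) : Ω) * (a : Ω) ^ j) * b * ((α y' : N) : Ω)⁻¹ := by group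
                  _ = _ := by rw [e7]; group
              rw [e6, h2]
              have e8 : y * (a : Ω) ^ j = (a : Ω) ^ j * y := (hcaS y hy).zpow_right j
              calc (a : Ω) ^ j * (y * b * y⁻¹) = ((a : Ω) ^ j * y) * b * y⁻¹ := by group
                _ = y * ((a : Ω) ^ j * b) * y⁻¹ := by rw [← e8]; group
                _ = y * (y⁻¹ * b * y) * y⁻¹ := by rw [hj]
                _ = b := by group
            have e9 := mul_inv_eq_iff_eq_mul.1 e5
            rw [e9, mul_assoc]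
    -- `α y = q y`
    obtain ⟨q, hq, hqy⟩ : ∃ q ∈ Q, ((α y' : N) : Ω) = q * y :=
      ⟨_, h3, by rw [inv_mul_cancel_right]⟩
    -- `y ^ p ∈ Q`
    have hypQ : y ^ p ∈ Q := by
      refine f3 _ (hNS (N.pow_mem hy p)) ((hcaS y hy).pow_left p).eq ?_
      have key : ∀ n : ℕ, y ^ n * (b : Ω) * (y ^ n)⁻¹ = (a : Ω) ^ (i * n) * b := by
        intro n
        induction n with
        | zero => simp
        | succ n ih =>
          have e1 : y ^ (n + 1) * (b : Ω) * (y ^ (n + 1))⁻¹ = y * (y ^ n * b * (y ^ n)⁻¹) * y⁻¹ := by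
            rw [pow_succ']
            group
          have e2 : y * (a : Ω) ^ (i * n) = (a : Ω) ^ (i * n) * y := (hcaS y hy).zpow_right _
          rw [e1, ih]
          calc y * ((a : Ω) ^ (i * n) * b) * y⁻¹ = (y * (a : Ω) ^ (i * n)) * b * y⁻¹ := by group
            _ = (a : Ω) ^ (i * n) * (y * b * y⁻¹) := by rw [e2]; group
            _ = (a : Ω) ^ (i * n) * ((a : Ω) ^ i * b) := by rw [hi]
            _ = (a : Ω) ^ (i * (n + 1 : ℕ)) * b := by
              rw [← mul_assoc, ← zpow_add]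
              congr 2
              push_cast
              ring
      have e1 := key p
      have e2 : (a : Ω) ^ (i * (p : ℤ)) = 1 := by
        have : (a : Ω) ^ p = 1 := congrArg Subtype.val (hQp a)
        rw [mul_comm, zpow_mul, zpow_natCast, this, one_zpow]
      rw [e2, one_mul] at e1
      exact mul_inv_eq_iff_eq_mul.1 e1
    -- commutators of `y` with `Q` are powers of `a`
    have hyq : ⁅y, q⁆ ∈ zpowers (a : Ω) := by
      obtain ⟨k, l, hkl⟩ := f2 ⟨q, hq⟩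
      have hkl' : q = (a : Ω) ^ k * (b : Ω) ^ l := congrArg Subtype.val hkl
      have e1 : y * (b : Ω) ^ l * y⁻¹ = ((a : Ω) ^ i * b) ^ l := by
        rw [← hi, conj_zpow]
      have hab : Commute ((a : Ω) ^ i) (b : Ω) := by
        have := hQcomm (a ^ i) b
        exact congrArg (fun t : Q => (t : Ω)) this
      have e2 : y * (a : Ω) ^ k = (a : Ω) ^ k * y := (hcaS y hy).zpow_right _
      have e3 : ⁅y, q⁆ = (a : Ω) ^ (k + i * l - k) := by
        rw [commutatorElement_def, hkl']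
        calc y * ((a : Ω) ^ k * (b : Ω) ^ l) * y⁻¹ * ((a : Ω) ^ k * (b : Ω) ^ l)⁻¹
            = (y * (a : Ω) ^ k) * (b : Ω) ^ l * y⁻¹ * ((b : Ω) ^ l)⁻¹ * ((a : Ω) ^ k)⁻¹ := by group
          _ = (a : Ω) ^ k * (y * (b : Ω) ^ l * y⁻¹) * ((b : Ω) ^ l)⁻¹ * ((a : Ω) ^ k)⁻¹ := by
            rw [e2]; group
          _ = (a : Ω) ^ (k + i * l - k) := by
            rw [e1, hab.mul_zpow, ← mul_assoc, mul_inv_cancel_right, ← zpow_mul, ← zpow_add,
              ← zpow_neg, ← zpow_add, sub_eq_add_neg]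
      exact ⟨_, e3.symm⟩
    have hqa : Commute q (a : Ω) := hcaS q (hQN hq)
    have h4 : ((α y' : N) : Ω) ^ p = y ^ p := by
      obtain ⟨k, hk⟩ := hyq
      have hk' : (a : Ω) ^ k = ⁅y, q⁆ := hk
      rw [hqy, Cfsg.Agent.Lib.CoprimeStab.mul_pow_prime_of_class_two hp.out hp2 (x := q) (y := y)
        (by rw [← hk']; exact (hqa.zpow_right k).symm) (by rw [← hk']; exact ((hcaS y hy).zpow_right k).symm)]
      · have : q ^ p = 1 := congrArg Subtype.val (hQp ⟨q, hq⟩)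
        rw [this, one_mul]
      · have : q ^ p = 1 := congrArg Subtype.val (hQp ⟨q, hq⟩)
        rw [this]
        exact Commute.one_left y
    have h5 : ((α y' : N) : Ω) ^ p = (y ^ p)⁻¹ := by
      have e1 := hαQ _ hypQ
      rw [← e1]
      have e2 : (⟨y ^ p, hQN hypQ⟩ : N) = y' ^ p := Subtype.ext rfl
      rw [e2, map_pow]
      rfl
    rw [h4] at h5
    have h6 : (y ^ p) ^ 2 = 1 := by
      rw [pow_two]
      nth_rewrite 1 [h5]
      exact inv_mul_cancel _
    have h7 : (y ^ p) ^ p = 1 := congrArg Subtype.val (hQp ⟨_, hypQ⟩)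
    have h8 : orderOf (y ^ p) ∣ Nat.gcd 2 p := Nat.dvd_gcd (orderOf_dvd_of_pow_eq_one h6)
      (orderOf_dvd_of_pow_eq_one h7)
    have h9 : Nat.gcd 2 p = 1 := (Nat.coprime_primes Nat.prime_two hp.out).2 (Ne.symm hp2)
    rwa [h9, Nat.dvd_one, orderOf_eq_one_iff] at h8
  -- `N ≠ S`
  have hNne : N ≠ S := by
    intro h
    apply hnotE
    rw [← h]
    refine ⟨hNc, ?_⟩
    have h1 : Monoid.exponent N ∣ p := by
      rw [Monoid.exponent_dvd_iff_forall_pow_eq_one]
      intro y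
      exact Subtype.ext (hNexp y y.2)
    rcases (Nat.dvd_prime hp.out).1 h1 with h2 | h2
    · exfalso
      have h3 : Subsingleton N := Monoid.exp_eq_one_iff.1 h2
      have h4 : Nat.card N = 1 := Nat.card_of_subsingleton 1
      rw [hNc] at h4
      exact absurd h4 (Nat.one_lt_pow (by norm_num) hp.out.one_lt).ne'
    · exact h2
  -- a fully normalized conjugate of `N`
  have hNcen : F.IsCentric N := isCentric_of_le hc hQN hNS
  obtain ⟨N₁, hNN₁, hN₁⟩ := exists_isFullyNormalized hS hF hNS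
  have hN₁cen : F.IsCentric N₁ := isCentric_of_isConj hNcen hNN₁
  have hN₁c : Nat.card N₁ = p ^ 3 := by rw [← isConj_card_eq hNN₁, hNc]
  have hN₁ne : N₁ ≠ S := by
    intro h
    apply hNne
    refine eq_of_le_of_card_ge hNS ?_
    rw [← h, hN₁c, hNc]
  by_cases hno₁ : NoNormal p F N₁
  · obtain ⟨-, -, h1, -⟩ := bad_elementary hp5 hS hF hrk hN₁ hN₁cen hN₁ne hno₁
    rw [hN₁c] at h1
    have := Nat.pow_right_injective hp.out.two_le h1
    omega
  obtain ⟨T, hTS, hTn, hTc, hN₁T, hText⟩ := exists_large_extension hS hF hN₁ hno₁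
  obtain ⟨φ, hφ, hφr⟩ := hNN₁
  have hφinj := F.injective_of_mem hφ
  have hφmem : ∀ x : N, φ x ∈ N₁ := fun x => hφr ▸ ⟨x, rfl⟩
  -- the automorphism
  obtain ⟨m, hm⟩ : ∃ m : ℤ, 2 * m ≡ 1 [ZMOD p] := by
    refine exists_inv_mod fun h => ?_
    have h1 := Int.le_of_dvd (by norm_num) (Int.modEq_zero_iff_dvd.1 h)
    omega
  rw [mul_comm] at hm
  obtain ⟨h, -, hhb, hhP⟩ := hd m 2 hm
  rw [mem_bot, inv_mul_eq_one] at hhb
  obtain ⟨α, hαF, hα⟩ := hext h hhP
  have hα₁ := congr_mem_autGroup hφ hφr hαF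
  set α₁ : MulAut N₁ := MulAut.congr (isoOf φ (F.injective_of_mem hφ) hφr) α with hα₁def
  have hα₁app : ∀ x : N, α₁ ⟨φ x, hφmem x⟩ = ⟨φ (α x), hφmem _⟩ := by
    intro x
    have e1 : (⟨φ x, hφmem x⟩ : N₁) = isoOf φ (F.injective_of_mem hφ) hφr x := Subtype.ext rfl
    rw [e1, hα₁def]
    apply Subtype.ext
    show ((isoOf φ (F.injective_of_mem hφ) hφr (α ((isoOf φ (F.injective_of_mem hφ) hφr).symm
      (isoOf φ (F.injective_of_mem hφ) hφr x))) : N₁) : Ω) = φ (α x)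
    rw [MulEquiv.symm_apply_apply]
    rfl
  obtain ⟨ψ, hψ, hψe, hψT⟩ := hText α₁ hα₁
  have hfinT : Finite T := finite_of_le hTS
  obtain ⟨β, -, hβ⟩ := exists_aut hψ (range_eq_of_mapsTo hψ hψT)
  have hβ' : ∀ (x : Ω) (hx : x ∈ N₁), ((β ⟨x, hN₁T hx⟩ : T) : Ω) = (α₁ ⟨x, hx⟩ : N₁) := by
    intro x hx
    rw [hβ]
    exact hψe x hx
  -- the subgroup `E` of `T`
  have hTp : IsPGroup p T := hS.to_le hTS
  have hrkT := rank_le hTS hrk
  set E : Subgroup T := N₁.subgroupOf T with hEdef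
  have hEc : Nat.card E = p ^ 3 := by
    rw [← hN₁c]
    exact Nat.card_congr (subgroupOfEquivOfLe hN₁T).toEquiv
  have hEmem : ∀ x : T, x ∈ E ↔ (x : Ω) ∈ N₁ := fun x => mem_subgroupOf
  have hEn : E.Normal := by
    refine ⟨fun x hx y => ?_⟩
    rw [hEmem] at hx ⊢
    exact (mem_normalizer_iff.1 (hTn y.2) x).1 hx
  have hN₁exp : ∀ x ∈ N₁, x ^ p = 1 := by
    intro x hx
    rw [← hφr] at hx
    obtain ⟨y, rfl⟩ := hx
    rw [← map_pow]
    have : y ^ p = 1 := Subtype.ext (hNexp y y.2)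
    rw [this, map_one]
  have hexpE : ∀ x ∈ E, x ^ p = 1 := fun x hx => Subtype.ext (hN₁exp x ((hEmem x).1 hx))
  have hclE : ∀ x ∈ E, ∀ y ∈ E, ⁅x, y⁆ ∈ zOf E := by
    intro x hx y hy
    have h1 := comm_mem_center (G := E) hEc ⟨x, hx⟩ ⟨y, hy⟩
    rw [mem_zOf]
    refine ⟨(⁅(⟨x, hx⟩ : E), ⟨y, hy⟩⁆ : E).2, fun z hz => ?_⟩
    exact congrArg Subtype.val (mem_center_iff.1 h1 ⟨z, hz⟩)
  -- `N` is not abelian
  obtain ⟨y₀, hy₀N, hy₀⟩ : ∃ y ∈ N, ¬ (y * (b : Ω) = b * y) := by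
    by_contra hcon
    push Not at hcon
    have h1 : N ≤ Q := fun y hy => f3 y (hNS hy) (hcaS y hy).eq (hcon y hy)
    have h2 : Nat.card N ≤ Nat.card Q := Nat.card_mono (Set.toFinite _) h1
    rw [hNc, hQc] at h2
    have := (Nat.pow_le_pow_iff_right hp.out.one_lt).1 h2
    omega
  set b₁ : N := ⟨b, hQN b.2⟩ with hb₁
  set a₁ : N := ⟨a, hQN a.2⟩ with ha₁
  have hnaE : ∃ x ∈ E, ∃ y ∈ E, x * y ≠ y * x := by
    refine ⟨⟨φ ⟨y₀, hy₀N⟩, hN₁T (hφmem _)⟩, hφmem _, ⟨φ b₁, hN₁T (hφmem _)⟩, hφmem _, fun h => hy₀ ?_⟩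
    have h1 : φ ⟨y₀, hy₀N⟩ * φ b₁ = φ b₁ * φ ⟨y₀, hy₀N⟩ := congrArg Subtype.val h
    rw [← map_mul, ← map_mul] at h1
    exact congrArg Subtype.val (hφinj h1)
  obtain ⟨hZc, -⟩ := card_of_class_two hTp hrkT hexpE hclE hnaE
  -- elements of the centre
  have hZn : (zOf E).Normal := by
    refine ⟨fun z hz y => ?_⟩
    rw [mem_zOf] at hz ⊢
    refine ⟨hEn.conj_mem _ hz.1 y, fun w hw => ?_⟩
    have h1 := hz.2 (y⁻¹ * w * y⁻¹⁻¹) (hEn.conj_mem _ hw y⁻¹)
    rw [inv_inv] at h1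
    calc w * (y * z * y⁻¹) = y * ((y⁻¹ * w * y) * z) * y⁻¹ := by group
      _ = y * (z * (y⁻¹ * w * y)) * y⁻¹ := by rw [h1]
      _ = y * z * y⁻¹ * w := by group
  have hZcen : ∀ z ∈ zOf E, ∀ y : T, z * y = y * z := fun z hz y =>
    central_of_card_prime hTp hZn hZc hz y
  set e : T := ⟨φ b₁, hN₁T (hφmem _)⟩ with hedef
  set e' : T := ⟨φ a₁, hN₁T (hφmem _)⟩ with he'def
  have he'Z : e' ∈ zOf E := by
    rw [mem_zOf]
    refine ⟨hφmem _, fun y hy => Subtype.ext ?_⟩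
    rw [hEmem, ← hφr] at hy
    obtain ⟨y', hy'⟩ := hy
    show (y : Ω) * φ a₁ = φ a₁ * y
    rw [← hy', ← map_mul, ← map_mul]
    congr 1
    exact Subtype.ext (hcaS _ y'.2).eq
  have he'1 : e' ≠ 1 := by
    intro h1
    have h2 : φ a₁ = 1 := congrArg Subtype.val h1
    have h3 : a₁ = 1 := hφinj (by rw [h2, map_one])
    exact ha1 (Subtype.ext (congrArg (fun t : N => (t : Ω)) h3))
  -- the image of `Q`
  set Q₁ : Subgroup Ω := (Q.subgroupOf N).map φ with hQ₁
  have hQQ₁ : F.IsConj Q Q₁ := by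
    refine ⟨φ.comp (inclusion hQN), restrict_mem hφ hQN, ?_⟩
    rw [hQ₁]
    ext x
    constructor
    · rintro ⟨y, rfl⟩
      exact ⟨inclusion hQN y, y.2, rfl⟩
    · rintro ⟨y, hy, rfl⟩
      exact ⟨⟨y, hy⟩, rfl⟩
  obtain ⟨g, hg⟩ : ∃ g : T, ⁅g, e⁆ ∉ zOf E := by
    by_contra hcon
    push Not at hcon
    have hTN : T ≤ normalizerIn S Q₁ := by
      have key : ∀ g ∈ T, ∀ x ∈ Q₁, g * x * g⁻¹ ∈ Q₁ := by
        rintro g hg _ ⟨y, hy, rfl⟩
        obtain ⟨i, j, hij⟩ := f2 ⟨y, hy⟩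
        have hy' : y = a₁ ^ i * b₁ ^ j := Subtype.ext (congrArg (fun t : Q => (t : Ω)) hij)
        have h1 := hcon ⟨g, hg⟩
        obtain ⟨k, hk⟩ := exists_zpow_of_card_prime hZc he'Z he'1 h1
        have hk' : g * φ b₁ * g⁻¹ * (φ b₁)⁻¹ = (φ a₁) ^ k := by
          have := congrArg Subtype.val hk
          exact this
        have h2 : g * φ b₁ * g⁻¹ = φ (a₁ ^ k * b₁) := by
          rw [map_mul, map_zpow, ← hk', inv_mul_cancel_right]
        have h3 : g * φ a₁ * g⁻¹ = φ a₁ := by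
          have := congrArg Subtype.val (hZcen e' he'Z ⟨g, hg⟩)
          have h4 : φ a₁ * g = g * φ a₁ := this
          rw [← h4, mul_inv_cancel_right]
        have h4 : g * φ y * g⁻¹ = φ (a₁ ^ i * (a₁ ^ k * b₁) ^ j) := by
          rw [hy', map_mul, map_zpow, map_zpow]
          have h5 : g * ((φ a₁) ^ i * (φ b₁) ^ j) * g⁻¹ =
              (g * φ a₁ * g⁻¹) ^ i * (g * φ b₁ * g⁻¹) ^ j := by
            rw [conj_zpow, conj_zpow]
            group
          rw [h5, h3, h2, map_mul φ (a₁ ^ i), map_zpow, map_zpow]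
        rw [h4]
        exact ⟨_, Q.mul_mem (Q.zpow_mem a.2 i) (Q.zpow_mem (Q.mul_mem (Q.zpow_mem a.2 k) b.2) j), rfl⟩
      intro g hg
      refine ⟨hTS hg, mem_normalizer_iff.2 fun x => ⟨key g hg x, fun hx => ?_⟩⟩
      have h1 := key g⁻¹ (T.inv_mem hg) _ hx
      have h2 : g⁻¹ * (g * x * g⁻¹) * g⁻¹⁻¹ = x := by group
      rwa [h2] at h1
    have hfinN₁ : Finite (normalizerIn S Q₁) := finite_of_le inf_le_left
    have h1 : Nat.card T ≤ Nat.card (normalizerIn S Q₁) := Nat.card_mono (Set.toFinite _) hTN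
    have h2 := hQ.2 Q₁ hQQ₁
    rw [← hNdef, hNc, ← hN₁c] at h2
    omega
  have hfin := lemma_b (E := E) hTp hrkT hEn hexpE hEc hZc hclE ?_ β ?_ (e := e) (hφmem _) hg
    (b := 2) ?_
  · have h1 : (p : ℤ) ∣ 1 - 2 * 2 := hfin.dvd
    have h2 : (p : ℤ) ∣ 3 := by
      have h3 : (1 - 2 * 2 : ℤ) = -3 := by norm_num
      rw [h3] at h1
      exact (dvd_neg.1 h1)
    have h3 := Int.le_of_dvd (by norm_num) h2
    omega
  · intro c hcE
    have h1 : (c : Ω) ∈ N₁ := by
      refine hN₁cen.2 N₁ (isConj_refl F hN₁.1) ⟨hTS c.2, mem_centralizer_iff.2 fun z hz => ?_⟩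
      exact (congrArg Subtype.val (hcE ⟨z, hN₁T hz⟩ hz)).symm
    have h2 : c ∈ zOf E := mem_zOf.2 ⟨h1, fun y hy => (hcE y hy).symm⟩
    exact hZcen c h2
  · intro x hx
    have hx' : (x : Ω) ∈ N₁ := hx
    show ((β x : T) : Ω) ∈ N₁
    have h1 := hβ' x hx'
    have h2 : (⟨(x : Ω), hN₁T hx'⟩ : T) = x := rfl
    rw [h2] at h1
    rw [h1]
    exact (α₁ _).2
  · have h1 : β e = e ^ (2 : ℤ) := by
      apply Subtype.ext
      have h2 := hβ' (φ b₁) (hφmem _)
      have h3 : (⟨φ b₁, hN₁T (hφmem _)⟩ : T) = e := rfl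
      rw [h3, hα₁app] at h2
      rw [h2]
      have h4 : α b₁ = b₁ ^ (2 : ℤ) := by
        apply Subtype.ext
        rw [hα b, ← hhb]
        rfl
      show φ (α b₁) = (φ b₁) ^ (2 : ℤ)
      rw [h4, map_zpow]
    intro g
    rw [h1, inv_mul_cancel, commutatorElement_one_right]
    exact one_mem _

end Cfsg.Agent.H791
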