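import Cfsg.Agent.H747.RowTwo
import Cfsg.Agent.H799.SymSyl
import Cfsg.Prelude.Def_Classification2

/-!
# S5161: the row of the alternating groups (helper791)
-/

set_option autoImplicit false

namespace Cfsg.Agent.H791.RowAlt

open Cfsg.Agent.H747

/-- The Sylow `2`-subgroups of `A₅` are abelian. -/
theorem comm_five (T : Sylow 2 (alternatingGroup (Fin 5))) :
    ∀ x ∈ (T : Subgroup (alternatingGroup (Fin 5))), ∀ y ∈ (T : Subgroup (alternatingGroup (Fin 5))), x * y = y * x := by
  have hp : Fact (Nat.Prime 2) := ⟨Nat.prime_two⟩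
  have hc : Nat.card (T : Subgroup (alternatingGroup (Fin 5))) = 2 ^ 2 := by
    rw [T.card_eq_multiplicity]
    have h : Nat.card (alternatingGroup (Fin 5)) = 60 := by
      rw [Nat.card_eq_fintype_card, ← Nat.mul_right_inj (two_ne_zero), two_mul_card_alternatingGroup]
      simp [Fintype.card_perm, Nat.factorial]
    rw [h]
    congr 1
    rw [show (60 : ℕ) = 2 ^ 2 * 15 by norm_num, Nat.factorization_mul (by norm_num) (by norm_num),
      Finsupp.add_apply, Nat.factorization_pow, Finsupp.smul_apply, Nat.Prime.factorization_self Nat.prime_two,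
      Nat.factorization_eq_zero_of_not_dvd (show ¬ 2 ∣ 15 by norm_num)]
    rfl
  intro x hx y hy
  have h := IsPGroup.isMulCommutative_of_card_eq_prime_sq hc
  exact congrArg Subtype.val (h.is_comm.comm ⟨x, hx⟩ ⟨y, hy⟩)

theorem row_alt {K : Type*} [Group K] [Finite K] (h : Cfsg.IsAlternating K) : RowTwo K := by
  obtain ⟨n, hn, ⟨e⟩⟩ := h
  refine RowTwo.congr e.symm ?_
  rcases Nat.lt_or_ge n 6 with h6 | h6
  · have h5 : n = 5 := by omega
    subst h5
    exact Or.inr (NormRow.of_comm default (comm_five default))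
  · refine Or.inl (OddRow.of_self default (le_of_eq ?_))
    exact Cfsg.Agent.H799.SymSyl.normalizer_alt (by simpa using h6) default

end Cfsg.Agent.H791.RowAlt
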