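import Cfsg.Agent.H791.TwoDim

/-!
# Automorphisms acting on a section of order `p ^ 2` (helper791)

`exists_diag_section`: the element-wise form of `exists_diag` for a group of automorphisms of `Q` acting on
a section `E / K` of order `p ^ 2`, `E` and `K` characteristic in `Q`.
-/

set_option autoImplicit false

namespace Cfsg.Agent.H791

open Subgroup
open scoped commutatorElement

variable {Q : Type*} [Group Q]

theorem char_apply_mem {H : Subgroup Q} (hH : H.Characteristic) (α : MulAut Q) {x : Q} (hx : x ∈ H) :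
    α x ∈ H :=
  characteristic_iff_le_comap.1 hH α hx

/-- the action on a section `E / K` -/
theorem section_mem {K : Subgroup Q} (hK : K.Characteristic) (α : MulAut Q) {x y : Q}
    (h : x⁻¹ * y ∈ K) : (α x)⁻¹ * α y ∈ K := by
  rw [← map_inv, ← map_mul]
  exact char_apply_mem hK α h

/-- the automorphism induced on the section -/
def secAut (E K : Subgroup Q) (hE : E.Characteristic) (hK : K.Characteristic)
    [(K.subgroupOf E).Normal] : MulAut Q →* MulAut (E ⧸ K.subgroupOf E) where
  toFun α :=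
    { toFun := Quotient.map' (fun x : E => (⟨α x, char_apply_mem hE α x.2⟩ : E)) (by
        intro x y hxy
        rw [QuotientGroup.leftRel_apply] at hxy ⊢
        rw [mem_subgroupOf] at hxy ⊢
        exact section_mem hK α hxy)
      invFun := Quotient.map' (fun x : E => (⟨α⁻¹ x, char_apply_mem hE α⁻¹ x.2⟩ : E)) (by
        intro x y hxy
        rw [QuotientGroup.leftRel_apply] at hxy ⊢
        rw [mem_subgroupOf] at hxy ⊢
        exact section_mem hK α⁻¹ hxy)
      left_inv := by
        intro q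
        induction q using Quotient.inductionOn' with
        | h x =>
          simp only [Quotient.map'_mk'']
          congr 1
          exact Subtype.ext (MulAut.inv_apply_self _ _ _)
      right_inv := by
        intro q
        induction q using Quotient.inductionOn' with
        | h x =>
          simp only [Quotient.map'_mk'']
          congr 1
          exact Subtype.ext (MulAut.apply_inv_self _ _ _)
      map_mul' := by
        intro q r
        induction q using Quotient.inductionOn' with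
        | h x =>
        induction r using Quotient.inductionOn' with
        | h y =>
          show Quotient.map' _ _ (Quotient.mk'' (x * y)) = _
          simp only [Quotient.map'_mk'']
          show Quotient.mk'' _ = Quotient.mk'' _
          congr 1
          exact Subtype.ext (map_mul α _ _) }
  map_one' := by
    apply MulEquiv.ext
    intro q
    induction q using Quotient.inductionOn' with
    | h x => rfl
  map_mul' := by
    intro α β
    apply MulEquiv.ext
    intro q
    induction q using Quotient.inductionOn' with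
    | h x => rfl

/-- `A` induces on the section `E / K` the group `SL(2, p)` in the sense of this file: `(a, b)` is a basis of
`E / K`, all elements of `R` act as `a ↦ a`, `b ↦ a ^ i * b`, the elements `u ∈ R` and `v` act as the two
unit shears and the diagonal matrices of determinant 1 are induced by elements normalizing `R`. -/
def HasDiag (p : ℕ) (A : Subgroup (MulAut Q)) (R : Subgroup A) (E K : Subgroup Q) : Prop :=
  ∃ u ∈ R, ∃ (v : A), ∃ a ∈ E, ∃ b ∈ E, a ∉ K ∧ b ∉ zpowers a ⊔ K ∧
    (∀ x ∈ E, ∃ i j : ℤ, x⁻¹ * (a ^ i * b ^ j) ∈ K) ∧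
    a⁻¹ * (u : MulAut Q) a ∈ K ∧ (a * b)⁻¹ * (u : MulAut Q) b ∈ K ∧
    (a * b)⁻¹ * (v : MulAut Q) a ∈ K ∧ b⁻¹ * (v : MulAut Q) b ∈ K ∧ (∃ k, v ^ p ^ k = 1) ∧
    (∀ g ∈ R, a⁻¹ * (g : MulAut Q) a ∈ K ∧ ∃ i : ℤ, (a ^ i * b)⁻¹ * (g : MulAut Q) b ∈ K) ∧
    ∀ m n : ℤ, m * n ≡ 1 [ZMOD p] → ∃ h : A, (a ^ m)⁻¹ * (h : MulAut Q) a ∈ K ∧
      (b ^ n)⁻¹ * (h : MulAut Q) b ∈ K ∧ ∀ g ∈ R, h * g * h⁻¹ ∈ R

/-- **Action on a section of order `p ^ 2`**, element-wise. -/
theorem exists_diag_section {p : ℕ} [hp : Fact p.Prime] [Finite Q] (A : Subgroup (MulAut Q))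
    (I : Subgroup A) (hI : IsPGroup p I) (hIn : I.Normal)
    (hmax : ∀ N : Subgroup A, N.Normal → IsPGroup p N → N ≤ I) (R : Sylow p A)
    (hR : ¬ (R : Subgroup A) ≤ I) {E K : Subgroup Q} (hE : E.Characteristic) (hK : K.Characteristic)
    (hKE : K ≤ E) (hcard : Nat.card E = p ^ 2 * Nat.card K) (hcomm : ∀ x ∈ E, ∀ y ∈ E, ⁅x, y⁆ ∈ K)
    (hpow : ∀ x ∈ E, x ^ p ∈ K)
    (hfaith : ∀ α ∈ A, (orderOf α).Coprime p → (∀ x ∈ E, x⁻¹ * α x ∈ K) → α = 1) :
    (∀ g : A, g ∈ I ↔ ∀ x ∈ E, x⁻¹ * (g : MulAut Q) x ∈ K) ∧ HasDiag p A R E K := by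
  have hn : (K.subgroupOf E).Normal := by
    refine ⟨fun x hx y => ?_⟩
    rw [mem_subgroupOf] at hx ⊢
    have h1 := K.mul_mem (hcomm y y.2 x x.2) hx
    have h2 : ⁅(y : Q), (x : Q)⁆ * x = ((y * x * y⁻¹ : E) : Q) := by
      push_cast
      rw [commutatorElement_def]
      group
    rwa [h2] at h1
  set V := E ⧸ K.subgroupOf E with hVdef
  have hmk : ∀ x y : E, (QuotientGroup.mk x : V) = QuotientGroup.mk y ↔ (x : Q)⁻¹ * y ∈ K := by
    intro x y
    rw [QuotientGroup.eq, mem_subgroupOf]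
    rfl
  let _ : CommGroup V :=
    { (inferInstance : Group V) with
      mul_comm := by
        intro q r
        obtain ⟨x, rfl⟩ := QuotientGroup.mk_surjective q
        obtain ⟨y, rfl⟩ := QuotientGroup.mk_surjective r
        rw [← QuotientGroup.mk_mul, ← QuotientGroup.mk_mul, hmk]
        have h1 := hcomm _ (E.inv_mem y.2) _ (E.inv_mem x.2)
        have h2 : ⁅(y : Q)⁻¹, (x : Q)⁻¹⁆ = ((x * y : E) : Q)⁻¹ * ((y * x : E) : Q) := by
          push_cast
          rw [commutatorElement_def]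
          group
        rwa [h2] at h1 }
  have hV : Nat.card V = p ^ 2 := by
    have h1 : Nat.card E = Nat.card V * Nat.card (K.subgroupOf E) :=
      card_eq_card_quotient_mul_card_subgroup _
    have h2 : Nat.card (K.subgroupOf E) = Nat.card K :=
      Nat.card_congr (subgroupOfEquivOfLe hKE).toEquiv
    rw [h2, hcard] at h1
    exact (Nat.eq_of_mul_eq_mul_right Nat.card_pos h1).symm
  have hVp : ∀ v : V, v ^ p = 1 := by
    intro v
    obtain ⟨x, rfl⟩ := QuotientGroup.mk_surjective v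
    rw [← QuotientGroup.mk_pow, QuotientGroup.eq_one_iff, mem_subgroupOf]
    exact hpow x x.2
  let ρ : A →* MulAut V := (secAut E K hE hK).comp A.subtype
  have hρ : ∀ (g : A) (x : E), ρ g (QuotientGroup.mk x) =
      QuotientGroup.mk (⟨(g : MulAut Q) x, char_apply_mem hE _ x.2⟩ : E) := fun g x => rfl
  have hkermem : ∀ g : A, g ∈ ρ.ker ↔ ∀ x ∈ E, x⁻¹ * (g : MulAut Q) x ∈ K := by
    intro g
    rw [MonoidHom.mem_ker]
    constructor
    · intro h x hx
      have h1 : ρ g (QuotientGroup.mk (⟨x, hx⟩ : E)) = QuotientGroup.mk (⟨x, hx⟩ : E) := by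
        rw [h, MulAut.one_apply]
      rw [hρ] at h1
      exact (hmk _ _).1 h1.symm
    · intro h
      apply MulEquiv.ext
      intro q
      obtain ⟨x, rfl⟩ := QuotientGroup.mk_surjective q
      rw [hρ, MulAut.one_apply]
      exact ((hmk _ _).2 (h x x.2)).symm
  have hker : IsPGroup p ρ.ker := by
    rw [IsPGroup.iff_card]
    have h0 : Nat.card ρ.ker ≠ 0 := Nat.card_pos.ne'
    refine ⟨(Nat.card ρ.ker).primeFactorsList.length, Nat.eq_prime_pow_of_unique_prime_dvd h0 ?_⟩
    intro q hq hqd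
    by_contra hne
    have : Fact q.Prime := ⟨hq⟩
    obtain ⟨g, hg⟩ := exists_prime_orderOf_dvd_card' q hqd
    have h1 : orderOf ((g : A) : MulAut Q) = q := by
      rw [orderOf_submonoid, orderOf_submonoid, hg]
    have h2 : ((g : A) : MulAut Q) = 1 := by
      refine hfaith _ (g : A).2 ?_ ((hkermem _).1 g.2)
      rw [h1]
      exact (Nat.coprime_primes hq hp.out).2 hne
    rw [h2, orderOf_one] at h1
    exact hq.one_lt.ne h1
  obtain ⟨hkerI, u, huR, v, a, b, ha, hb, hua, hub, hva, hvb, hvp, hRR, hdiag⟩ :=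
    exists_diag hV hVp ρ hker I hI hIn hmax R hR
  refine ⟨fun g => by rw [← hkerI]; exact hkermem g, u, huR, v, ?_⟩
  obtain ⟨a, rfl⟩ := QuotientGroup.mk_surjective a
  obtain ⟨b, rfl⟩ := QuotientGroup.mk_surjective b
  have hmkz : ∀ (x : E) (i : ℤ), (QuotientGroup.mk x : V) ^ i = QuotientGroup.mk (x ^ i) :=
    fun x i => rfl
  have hmkm : ∀ (x y : E), (QuotientGroup.mk x : V) * QuotientGroup.mk y = QuotientGroup.mk (x * y) :=
    fun x y => rfl
  refine ⟨a, a.2, b, b.2, ?_, ?_, ?_, ?_, ?_, ?_, ?_, hvp, ?_, ?_⟩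
  · intro h
    apply ha
    rw [QuotientGroup.eq_one_iff, mem_subgroupOf]
    exact h
  · intro h
    apply hb
    have hKn : K.Normal := normal_of_characteristic K
    obtain ⟨y, ⟨i, hi⟩, k, hk, hyk⟩ := mem_sup_of_normal_right.1 h
    have hi' : (a : Q) ^ i = y := hi
    refine ⟨i, ?_⟩
    show (QuotientGroup.mk a : V) ^ i = QuotientGroup.mk b
    rw [hmkz, hmk]
    have : ((a ^ i : E) : Q)⁻¹ * b = k := by
      rw [← hyk, ← hi']
      push_cast
      group
    rw [this]
    exact hk
  · intro x hx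
    obtain ⟨i, j, hij⟩ := exists_coord hV hVp ha hb (QuotientGroup.mk (⟨x, hx⟩ : E))
    rw [hmkz, hmkz, hmkm, hmk] at hij
    exact ⟨i, j, hij⟩
  · rw [hρ] at hua
    exact (hmk _ _).1 hua.symm
  · rw [hρ, hmkm] at hub
    exact (hmk _ _).1 hub.symm
  · rw [hρ, hmkm] at hva
    exact (hmk _ _).1 hva.symm
  · rw [hρ] at hvb
    exact (hmk _ _).1 hvb.symm
  · intro g hg
    obtain ⟨h1, i, h2⟩ := hRR g hg
    rw [hρ] at h1
    rw [hρ, hmkz, hmkm] at h2
    exact ⟨(hmk _ _).1 h1.symm, i, (hmk _ _).1 h2.symm⟩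
  · intro m n hmn
    obtain ⟨h, h1, h2, h3⟩ := hdiag m n hmn
    rw [hρ, hmkz] at h1 h2
    exact ⟨h, (hmk _ _).1 h1.symm, (hmk _ _).1 h2.symm, h3⟩

end Cfsg.Agent.H791
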