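import Cfsg.Agent.H781.QuatModels
import Cfsg.Agent.H781.Realized
import Cfsg.Agent.H790.SuperMain
import Cfsg.Agent.TwoFusion.QuatQuotient

/-!
# Fusion systems over dihedral, quasi-dihedral and quaternion groups which are not supersoluble (helper791)

* `exists_not_super`: the system of a finite group `G` with `HasTri G` over a Sylow 2-subgroup is not supersoluble;
* `exists_dihedral`: `PSL(2, q)` gives a Sylow 2-subgroup dihedral of any order `≥ 4`.
-/

set_option autoImplicit false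

namespace Cfsg.Agent.H791

open Subgroup Cfsg Cfsg.FusionSystem
open Cfsg.Agent.H802

variable {Ω : Type*} [Group Ω] {S : Subgroup Ω}

/-- A supersoluble system over a 2-group: automorphisms of `S` in the system have order a power of 2. -/
theorem pow_eq_one_of_super [Finite S] (hS : IsPGroup 2 S) {F : FusionSystem S} (h : H790.Super F)
    {α : MulAut S} (hα : α ∈ F.autGroup S) : ∃ n : ℕ, α ^ 2 ^ n = 1 := by
  have h1 := H790.cc_of_ss (H790.ss_of_super h)
  rw [Subgroup.subgroupOf_self] at h1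
  obtain ⟨n, hn⟩ := H790.pow_of_cc hS h1 α hα
  refine ⟨n, MulEquiv.ext fun x => ?_⟩
  have := hn x (mem_top x)
  simpa using this

/-- The system of a finite group containing a 2-subgroup and an element of order 3 normalizing, not centralizing it,
is not supersoluble. -/
theorem exists_not_super [Finite S] (hS : IsPGroup 2 S) {G : Type*} [Group G] [Finite G]
    (T : Sylow 2 G) (e : S ≃* (T : Subgroup G)) (h : H781.HasTri G) :
    ∃ F : FusionSystem S, F.IsSaturated 2 ∧ ¬ H790.Super F := by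
  obtain ⟨ι, hι⟩ : ∃ ι : S →* G, ι = (T : Subgroup G).subtype.comp e.toMonoidHom := ⟨_, rfl⟩
  have hinj : Function.Injective ι := by
    rw [hι]
    exact (T : Subgroup G).subtype_injective.comp e.injective
  have hrange : (T : Subgroup G) = ι.range := by
    rw [hι]
    ext x
    constructor
    · intro hx
      exact ⟨e.symm ⟨x, hx⟩, by simp⟩
    · rintro ⟨y, rfl⟩
      exact (e y).2
  have hsat : (H781.pullback ι hinj).IsSaturated 2 :=
    H781.isSaturated_of_isRealizedBy (H781.pullback_isRealizedBy ι hinj) T hrange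
  refine ⟨H781.pullback ι hinj, hsat, fun hsup => ?_⟩
  have hn := H790.isNormal_of_super hS hsat hsup
  obtain ⟨Q₀, w, hQ₀, hw, hwc, hw3⟩ := h
  obtain ⟨g, hg⟩ : ∃ g : G, ∀ x ∈ Q₀, g * x * g⁻¹ ∈ (T : Subgroup G) := by
    obtain ⟨R, hR⟩ := hQ₀.exists_le_sylow
    obtain ⟨g, hg⟩ := MulAction.exists_smul_eq G R T
    refine ⟨g, fun x hx => ?_⟩
    rw [← hg]
    exact Subgroup.smul_mem_pointwise_smul x (MulAut.conj g) _ (hR hx)
  have hwQ : ∀ x ∈ Q₀, w * x * w⁻¹ ∈ Q₀ := fun x hx => (mem_normalizer_iff.1 hw x).1 hx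
  obtain ⟨v, hv⟩ : ∃ v : G, v = g * w * g⁻¹ := ⟨_, rfl⟩
  -- the subgroup `P`
  obtain ⟨P, hP⟩ : ∃ P : Subgroup Ω, ∀ x : Ω, x ∈ P ↔ ∃ hx : x ∈ S, g⁻¹ * ι ⟨x, hx⟩ * g ∈ Q₀ := by
    refine ⟨(Q₀.comap ((MulAut.conj g⁻¹).toMonoidHom.comp ι)).map S.subtype, fun x => ?_⟩
    constructor
    · rintro ⟨y, hy, rfl⟩
      refine ⟨y.2, ?_⟩
      have : (MulAut.conj g⁻¹) (ι y) ∈ Q₀ := hy
      rw [MulAut.conj_apply, inv_inv] at this
      exact this
    · rintro ⟨hx, h⟩
      refine ⟨⟨x, hx⟩, ?_, rfl⟩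
      show (MulAut.conj g⁻¹) (ι ⟨x, hx⟩) ∈ Q₀
      rw [MulAut.conj_apply, inv_inv]
      exact h
  have hPS : P ≤ S := fun x hx => ((hP x).1 hx).1
  have hmem : ∀ x : P, v * ι ⟨x, hPS x.2⟩ * v⁻¹ ∈ ι.range := by
    intro x
    obtain ⟨hx, h1⟩ := (hP x).1 x.2
    rw [← hrange]
    have h2 := hg _ (hwQ _ h1)
    have h3 : g * (w * (g⁻¹ * ι ⟨x, hx⟩ * g) * w⁻¹) * g⁻¹ = v * ι ⟨x, hPS x.2⟩ * v⁻¹ := by
      rw [hv]; group
    rwa [h3] at h2
  obtain ⟨φ, hφ, hφv⟩ : ∃ φ ∈ (H781.pullback ι hinj).Hom P, ∀ (x : P) (hx : φ x ∈ S),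
      ι ⟨φ x, hx⟩ = v * ι ⟨x, hPS x.2⟩ * v⁻¹ := by
    let ψ : P →* ι.range := ((MulAut.conj v).toMonoidHom.comp
      (ι.comp (Subgroup.inclusion hPS))).codRestrict ι.range hmem
    let e' := MonoidHom.ofInjective hinj
    let φ : P →* Ω := S.subtype.comp (e'.symm.toMonoidHom.comp ψ)
    have h1 : ∀ (x : P) (hx : φ x ∈ S), ι ⟨φ x, hx⟩ = v * ι ⟨x, hPS x.2⟩ * v⁻¹ := by
      intro x hx
      have h2 : (⟨φ x, hx⟩ : S) = e'.symm (ψ x) := rfl
      rw [h2]
      have h3 : ι (e'.symm (ψ x)) = ((e' (e'.symm (ψ x)) : ι.range) : G) := rfl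
      rw [h3, MulEquiv.apply_symm_apply]
      rfl
    exact ⟨φ, ⟨hPS, fun x => (e'.symm (ψ x)).2, v, fun x => h1 x _⟩, h1⟩
  obtain ⟨α, hα, hαφ⟩ := H790.exists_aut_of_isNormal hn hφ
  have hαι : ∀ x : S, (x : Ω) ∈ P → ι (α x) = v * ι x * v⁻¹ := by
    intro x hx
    have h1 := hαφ x hx x.2
    have h2 : φ ⟨x, hx⟩ ∈ S := by rw [h1]; exact (α x).2
    rw [← hφv ⟨x, hx⟩ h2]
    congr 1
    exact Subtype.ext h1.symm
  have hαP : ∀ x : S, (x : Ω) ∈ P → ((α x : S) : Ω) ∈ P := by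
    intro x hx
    rw [hP]
    refine ⟨(α x).2, ?_⟩
    have h1 := hαι x hx
    have h2 : (⟨((α x : S) : Ω), (α x).2⟩ : S) = α x := rfl
    rw [h2, h1]
    obtain ⟨hx', h3⟩ := (hP x).1 hx
    have h4 := hwQ _ h3
    have h5 : w * (g⁻¹ * ι ⟨x, hx'⟩ * g) * w⁻¹ = g⁻¹ * (v * ι x * v⁻¹) * g := by
      rw [hv]; group
    rwa [h5] at h4
  have hpow : ∀ (k : ℕ) (x : S), (x : Ω) ∈ P →
      (((α ^ k) x : S) : Ω) ∈ P ∧ ι ((α ^ k) x) = v ^ k * ι x * (v ^ k)⁻¹ := by
    intro k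
    induction k with
    | zero => intro x hx; simpa using hx
    | succ k ih =>
      intro x hx
      obtain ⟨h1, h2⟩ := ih x hx
      rw [pow_succ', MulAut.mul_apply]
      refine ⟨hαP _ h1, ?_⟩
      rw [hαι _ h1, h2, pow_succ']
      group
  obtain ⟨n, hn1⟩ := pow_eq_one_of_super hS hsup hα
  apply hwc
  rw [mem_centralizer_iff]
  intro x hx
  have hgx := hg x hx
  rw [hrange] at hgx
  obtain ⟨y, hy⟩ := hgx
  have hyP : (y : Ω) ∈ P := by
    rw [hP]
    refine ⟨y.2, ?_⟩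
    have h1 : (⟨(y : Ω), y.2⟩ : S) = y := rfl
    rw [h1, hy]
    have h2 : g⁻¹ * (g * x * g⁻¹) * g = x := by group
    rw [h2]
    exact hx
  have h1 := (hpow (2 ^ n) y hyP).2
  rw [hn1, MulAut.one_apply, hy] at h1
  -- `w ^ 2 ^ n` commutes with `x`
  have h2 : x = w ^ 2 ^ n * x * (w ^ 2 ^ n)⁻¹ := by
    have h3 : v ^ 2 ^ n = g * w ^ 2 ^ n * g⁻¹ := by rw [hv, conj_pow]
    rw [h3] at h1
    have h4 : g * x * g⁻¹ = g * (w ^ 2 ^ n * x * (w ^ 2 ^ n)⁻¹) * g⁻¹ := by
      rw [h1]; group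
    exact mul_left_cancel (mul_right_cancel h4)
  have h3 : Commute (w ^ 2 ^ n) x := by
    show w ^ 2 ^ n * x = x * w ^ 2 ^ n
    calc w ^ 2 ^ n * x = (w ^ 2 ^ n * x * (w ^ 2 ^ n)⁻¹) * w ^ 2 ^ n := by group
      _ = x * w ^ 2 ^ n := by rw [← h2]
  have h4 : (w ^ 2 ^ n) ^ 2 ^ n = w := by
    rw [← pow_mul, ← pow_add, ← two_mul, pow_mul]
    have h5 : (2 ^ 2) ^ n % 3 = 1 := by
      rw [Nat.pow_mod]; norm_num
    have h6 : w ^ ((2 ^ 2) ^ n) = w ^ ((2 ^ 2) ^ n % 3) := by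
      rw [← Nat.div_add_mod ((2 ^ 2) ^ n) 3, pow_add, pow_mul, hw3, one_pow, one_mul]
      simp
    rw [h6, h5, pow_one]
  have h5 : Commute w x := by
    rw [← h4]
    exact h3.pow_left _
  exact h5.symm.eq

/-- `HasTri` passes to quotients by central subgroups of exponent 2. -/
theorem HasTri.quotient {A B : Type*} [Group A] [Group B] (h : H781.HasTri A) (f : A →* B)
    (hk : ∀ x ∈ f.ker, x * x = 1 ∧ ∀ g, g * x = x * g) : H781.HasTri B := by
  obtain ⟨Q₀, w, h1, h2, h3, h4⟩ := h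
  refine ⟨Q₀.map f, f w, h1.map f, ?_, ?_, by rw [← map_pow, h4, map_one]⟩
  · rw [Subgroup.mem_normalizer_iff] at h2 ⊢
    intro y
    constructor
    · rintro ⟨x, hx, rfl⟩
      exact ⟨w * x * w⁻¹, (h2 x).1 hx, by simp⟩
    · rintro ⟨x, hx, hxy⟩
      have hy : y = f (w⁻¹ * x * w) := by
        have : f x = f w * y * (f w)⁻¹ := hxy
        rw [map_mul, map_mul, map_inv, this]
        group
      refine ⟨w⁻¹ * x * w, (h2 _).2 ?_, hy.symm⟩
      have : w * (w⁻¹ * x * w) * w⁻¹ = x := by group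
      rwa [this]
  · intro hc
    apply h3
    rw [Subgroup.mem_centralizer_iff] at hc ⊢
    intro x hx
    have h5 : f x * f w = f w * f x := hc (f x) ⟨x, hx, rfl⟩
    obtain ⟨n, hn⟩ : ∃ n, n = x⁻¹ * (w * x * w⁻¹) := ⟨_, rfl⟩
    have hnk : n ∈ f.ker := by
      rw [MonoidHom.mem_ker, hn, map_mul, map_mul, map_mul, map_inv, map_inv, ← h5]
      group
    obtain ⟨hn2, hnc⟩ := hk n hnk
    have e1 : w * x * w⁻¹ = x * n := by rw [hn]; group
    have e2 : w * (w * x * w⁻¹) * w⁻¹ = x := by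
      rw [e1]
      calc w * (x * n) * w⁻¹ = (w * x * w⁻¹) * (w * n * w⁻¹) := by group
        _ = (x * n) * n := by rw [e1, hnc w, mul_inv_cancel_right]
        _ = x := by rw [mul_assoc, hn2, mul_one]
    have e3 : w * (w * (w * x * w⁻¹) * w⁻¹) * w⁻¹ = x := by
      have e4 : w * w * w = 1 := by rw [← h4, pow_succ, pow_two]
      calc w * (w * (w * x * w⁻¹) * w⁻¹) * w⁻¹ = (w * w * w) * x * (w * w * w)⁻¹ := by
            simp only [mul_inv_rev, mul_assoc]
        _ = x := by rw [e4]; group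
    rw [e2] at e3
    calc x * w = (w * x * w⁻¹) * w := by rw [e3]
      _ = w * x := by group

/-- **`PSL(2, q)`**. -/
theorem exists_dihedral (r : ℕ) (hr : 1 ≤ r) :
    ∃ (G : Type) (_ : Group G) (_ : Finite G) (T : Sylow 2 G),
      Nonempty ((T : Subgroup G) ≃* DihedralGroup (2 ^ r)) ∧ H781.HasTri G := by
  have : Fact (Nat.Prime 3) := ⟨Nat.prime_three⟩
  obtain ⟨K, _, _, hK⟩ := H781.exists_field 3 (2 ^ (r - 1)) (by positivity)
  have hodd : Odd (Fintype.card K) := by rw [hK]; exact (show Odd 3 by decide).pow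
  obtain ⟨c, i, j, w, h⟩ := GH.Cov.SLTwoFacts.exists_sl hodd
  obtain ⟨T⟩ : Nonempty (Sylow 2 (Matrix.SpecialLinearGroup (Fin 2) K)) := inferInstance
  obtain ⟨k, hk, ⟨e⟩⟩ := h.sylow T
  have hcard : Nat.card (T : Subgroup (Matrix.SpecialLinearGroup (Fin 2) K)) = 2 ^ (r + 2) := by
    rw [Sylow.card_eq_multiplicity, ClassicalGeometry.PSL2Basic.card_SL2, hK]
    obtain ⟨o, ho, he⟩ := H781.pow_two_pow_sub_one_three (r - 1)
    rw [he]
    have h1 : r - 1 + 3 = r + 2 := by omega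
    rw [h1]
    have h2 : 3 ^ 2 ^ (r - 1) * (2 ^ (r + 2) * o) = 2 ^ (r + 2) * (3 ^ 2 ^ (r - 1) * o) := by ring
    rw [h2, H781.factorization_two_pow_mul _ (((show Odd 3 by decide).pow).mul ho)]
  have hkr : k = r := by
    have h1 := Nat.card_congr e.toEquiv
    rw [hcard, H781.card_quaternion] at h1
    have := Nat.pow_right_injective (le_refl 2) h1
    omega
  subst hkr
  have hNZ : NeZero (2 ^ k) := ⟨by positivity⟩
  have hmemc : ∀ x ∈ zpowers c, x = 1 ∨ x = c := by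
    rintro _ ⟨n, rfl⟩
    have h1 : (c ^ n) * (c ^ n) = 1 := by
      rw [← (Commute.refl c).mul_zpow, h.cc, one_zpow]
    exact h.uniq _ h1
  have hN : (zpowers c).Normal := by
    refine ⟨fun x hx g => ?_⟩
    rcases hmemc x hx with rfl | rfl
    · simp
    · rw [← h.central, mul_inv_cancel_right]
      exact hx
  have hcT : c ∈ (T : Subgroup (Matrix.SpecialLinearGroup (Fin 2) K)) := by
    have h1 : IsPGroup 2 (zpowers c) := by
      rw [IsPGroup.iff_card]
      refine ⟨1, ?_⟩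
      rw [Nat.card_zpowers, pow_one]
      exact orderOf_eq_prime (by rw [pow_two, h.cc]) h.c_ne
    have h2 : zpowers c ≤ (T : Subgroup (Matrix.SpecialLinearGroup (Fin 2) K)) := by
      obtain ⟨R, hR⟩ := h1.exists_le_sylow
      obtain ⟨g, hg⟩ := MulAction.exists_smul_eq (Matrix.SpecialLinearGroup (Fin 2) K) R T
      rw [zpowers_le, ← hg]
      have h3 := Subgroup.smul_mem_pointwise_smul c (MulAut.conj g) (R : Subgroup _)
        (hR (mem_zpowers c))
      have h4 : MulAut.conj g • c = c := by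
        show g * c * g⁻¹ = c
        rw [← h.central, mul_inv_cancel_right]
      rwa [h4] at h3
    exact h2 (mem_zpowers c)
  have hsurj : Function.Surjective (QuotientGroup.mk' (zpowers c)) := QuotientGroup.mk'_surjective _
  refine ⟨Matrix.SpecialLinearGroup (Fin 2) K ⧸ zpowers c, inferInstance, inferInstance,
    T.mapSurjective hsurj, ?_, ?_⟩
  · obtain ⟨f, hf, hfk⟩ := TwoFusion.QuatQuotient.exists_hom_dihedral (2 ^ k)
    let f1 : (T : Subgroup (Matrix.SpecialLinearGroup (Fin 2) K)) →*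
        ((T : Subgroup (Matrix.SpecialLinearGroup (Fin 2) K)).map (QuotientGroup.mk' (zpowers c))) :=
      (QuotientGroup.mk' (zpowers c)).subgroupMap _
    refine TwoFusion.QuatQuotient.nonempty_mulEquiv_of_ker_eq f1 (f.comp e.toMonoidHom)
      (MonoidHom.subgroupMap_surjective _ _) (hf.comp e.surjective) ?_
    ext x
    have hx1 : x ∈ f1.ker ↔ (x : Matrix.SpecialLinearGroup (Fin 2) K) ∈ zpowers c := by
      rw [MonoidHom.mem_ker, ← QuotientGroup.eq_one_iff]
      exact ⟨fun h => congrArg Subtype.val h, fun h => Subtype.ext h⟩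
    have hx2 : x ∈ (f.comp e.toMonoidHom).ker ↔
        e x = 1 ∨ e x = QuaternionGroup.a ((2 ^ k : ℕ) : ZMod (2 * 2 ^ k)) := by
      rw [MonoidHom.mem_ker]
      exact hfk (e x)
    have hc1 : e ⟨c, hcT⟩ = QuaternionGroup.a ((2 ^ k : ℕ) : ZMod (2 * 2 ^ k)) := by
      have h1 := h.uniq ((e.symm (QuaternionGroup.a ((2 ^ k : ℕ) : ZMod (2 * 2 ^ k))) :
        (T : Subgroup (Matrix.SpecialLinearGroup (Fin 2) K))) : Matrix.SpecialLinearGroup (Fin 2) K) (by
          rw [← Subgroup.coe_mul, ← map_mul, QuaternionGroup.a_mul_a]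
          have h2 : ((2 ^ k : ℕ) : ZMod (2 * 2 ^ k)) + ((2 ^ k : ℕ) : ZMod (2 * 2 ^ k)) = 0 := by
            have h3 : ((2 * 2 ^ k : ℕ) : ZMod (2 * 2 ^ k)) = 0 := ZMod.natCast_self _
            rw [← Nat.cast_add, ← two_mul, h3]
          rw [h2, ← QuaternionGroup.one_def, map_one]
          rfl)
      have h0 : (QuaternionGroup.a ((2 ^ k : ℕ) : ZMod (2 * 2 ^ k)) : QuaternionGroup (2 ^ k)) ≠ 1 := by
        intro h2
        rw [QuaternionGroup.one_def] at h2
        have h3 : ((2 ^ k : ℕ) : ZMod (2 * 2 ^ k)) = 0 := by injection h2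
        rw [ZMod.natCast_eq_zero_iff] at h3
        have := Nat.le_of_dvd (by positivity) h3
        have : 0 < 2 ^ k := by positivity
        omega
      rcases h1 with h1 | h1
      · exfalso
        apply h0
        have h2 : e.symm (QuaternionGroup.a ((2 ^ k : ℕ) : ZMod (2 * 2 ^ k))) = 1 := Subtype.ext h1
        rw [← e.apply_symm_apply (QuaternionGroup.a ((2 ^ k : ℕ) : ZMod (2 * 2 ^ k))), h2, map_one]
      · have h2 : e.symm (QuaternionGroup.a ((2 ^ k : ℕ) : ZMod (2 * 2 ^ k))) = ⟨c, hcT⟩ := Subtype.ext h1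
        rw [← h2, e.apply_symm_apply]
    refine hx1.trans (Iff.trans ?_ hx2.symm)
    constructor
    · intro hx
      rcases hmemc _ hx with h1 | h1
      · left
        have h2 : x = 1 := Subtype.ext h1
        rw [h2, map_one]
      · right
        have h2 : x = ⟨c, hcT⟩ := Subtype.ext h1
        rw [h2, hc1]
    · rintro (h1 | h1)
      · have h2 : x = 1 := e.injective (by rw [h1, map_one])
        rw [h2]
        exact one_mem _
      · have h2 : x = ⟨c, hcT⟩ := e.injective (by rw [h1, hc1])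
        rw [h2]
        exact mem_zpowers c
  · refine HasTri.quotient (H781.hasTri_sl hodd) (QuotientGroup.mk' (zpowers c)) fun x hx => ?_
    rw [QuotientGroup.ker_mk'] at hx
    rcases hmemc x hx with rfl | rfl
    · simp
    · exact ⟨h.cc, fun g => (h.central g).symm⟩

end Cfsg.Agent.H791
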